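/-
Project T35: simple groups of order `2^a * 3 * 5 * q^b` (interface).
-/
import Cfsg.Agent.Fgs.Ix2Defs
import Cfsg.Prelude.Def_SporadicB

set_option autoImplicit false
set_option linter.unusedSectionVars false

namespace CL.T35

open Cfsg Subgroup
open CL.Ix2 (cc cl np L2)

universe u

section
variable {G : Type u} [Group G]

/-- an integer valued irreducible character -/
def IZ (X : G → ℤ) : Prop := IsIrrCharacter G fun g => (X g : ℂ)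

/-- the principal 3-block `{1, X, Y}` when a Sylow 3-subgroup has order 3 -/
structure Tri (X Y : G → ℤ) : Prop where
  hX : IZ X
  hY : IZ Y
  one_lt : 1 < Y 1
  reg : ∀ g : G, ¬ 3 ∣ orderOf g → X g = Y g + 1
  sing : ∀ g : G, 3 ∣ orderOf g → X g = -1 ∧ Y g = 1
  conj : ∀ x y : G, orderOf x = 3 → orderOf y = 3 → IsConj x y

/-- integrality coming from the pairs whose product is 3-singular -/
def TriInt (X Y : G → ℤ) : Prop :=
  ∀ x g h : G, orderOf x = 3 → ¬ 3 ∣ orderOf g → ¬ 3 ∣ orderOf h →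
    ∃ n : ℕ, 3 * (n : ℤ) * cc g * cc h * X 1 * Y 1 = cc x * Nat.card G * (Y 1 - Y g) * (Y 1 - Y h)

/-- a self-centralizing Sylow subgroup of prime order `q` with automizer of order `e` -/
structure SC (q e : ℕ) (P : Sylow q G) : Prop where
  card : Nat.card (P : Subgroup G) = q
  idx : (P : Subgroup G).relIndex (normalizer ((P : Subgroup G) : Set G)) = e
  two_le : 2 ≤ e
  dvd : e ∣ q - 1
  count : ∃ n : ℕ, Nat.card G = q * e * n ∧ n % q = 1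
  cent : ∀ x : G, orderOf x = q → centralizer ({x} : Set G) = zpowers x
  conj : e = q - 1 → ∀ x y : G, orderOf x = q → orderOf y = q → IsConj x y

/-- the case of a self-centralizing element of order 5 with automizer of order 4 -/
structure Five (u : G) (a b : ℕ) : Prop where
  card : Nat.card G = 5 * 3 ^ a * 2 ^ b
  ord : orderOf u = 5
  cent : ∀ x : G, orderOf x = 5 → centralizer ({x} : Set G) = zpowers x
  conj : ∀ x : G, orderOf x = 5 → IsConj u x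

/-- the non-principal characters `χ i` not vanishing at `u`; `d i` is the signed degree, `f i` says that `χ i` is
outside the principal 2-block, `g i` that it is outside the principal 3-block -/
structure BD (u : G) (χ : Fin 4 → IrrCharacter G) (δ d : Fin 4 → ℤ) (f g : Fin 4 → Bool) : Prop where
  inj : Function.Injective χ
  ne_one : ∀ i, (χ i : G → ℂ) ≠ fun _ => 1
  sign : ∀ i, δ i = 1 ∨ δ i = -1
  val : ∀ i (x : G), orderOf x = 5 → (χ i : G → ℂ) x = δ i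
  other : ∀ ψ : IrrCharacter G, (ψ : G → ℂ) ≠ (fun _ => 1) → (∀ i, ψ ≠ χ i) → ∀ x : G, orderOf x = 5 → (ψ : G → ℂ) x = 0
  deg : ∀ i, (d i : ℂ) = δ i * (χ i : G → ℂ) 1
  rel : ∀ x : G, orderOf x ≠ 5 → 1 + ∑ i, δ i * (χ i : G → ℂ) x = 0
  pairs : ∀ x y : G, (np x y u : ℂ) * cc x * cc y =
    Nat.card G * (1 + ∑ i, (χ i : G → ℂ) x * (χ i : G → ℂ) y / d i)
  inv : ∀ t : G, orderOf t = 2 → np t t u = 0 ∨ np t t u = 5
  cop : ∀ i (z : G), z ≠ 1 → (cl z).Coprime (d i).natAbs → (χ i : G → ℂ) z = 0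
  v2 : ∀ x : G, 2 ∣ orderOf x → ∑ i with f i = true, δ i * (χ i : G → ℂ) x = 0
  v3 : ∀ x : G, 3 ∣ orderOf x → ∑ i with g i = true, δ i * (χ i : G → ℂ) x = 0
  nz2 : ∀ i, f i = false → ∀ z : G, ¬ 2 ∣ cl z → (χ i : G → ℂ) z ≠ 0
  nz3 : ∀ i, g i = false → ∀ z : G, ¬ 3 ∣ cl z → (χ i : G → ℂ) z ≠ 0

/-- the data of a simple group of order 25920 -/
structure F25 (u : G) (U W Q R : G → ℤ) : Prop where
  card : Nat.card G = 25920
  ord : orderOf u = 5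
  five : ∀ x : G, 5 ∣ orderOf x → orderOf x = 5
  card5 : Nat.card {x : G // orderOf x = 5} = 5184
  hU : IZ U
  hW : IZ W
  hQ : IZ Q
  hR : IZ R
  one : U 1 = 6 ∧ W 1 = 24 ∧ Q 1 = 64 ∧ R 1 = 81
  val : ∀ x : G, orderOf x = 5 → U x = 1 ∧ W x = -1 ∧ Q x = -1 ∧ R x = 1
  other : ∀ ψ : IrrCharacter G, (ψ : G → ℂ) u ≠ 0 → (ψ : G → ℂ) = (fun _ => 1) ∨ (ψ : G → ℂ) = (fun x => (U x : ℂ)) ∨
    (ψ : G → ℂ) = (fun x => (W x : ℂ)) ∨ (ψ : G → ℂ) = (fun x => (Q x : ℂ)) ∨ (ψ : G → ℂ) = (fun x => (R x : ℂ))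
  rel : ∀ x : G, orderOf x ≠ 5 → 1 + U x + R x = W x + Q x
  q0 : ∀ x : G, 2 ∣ orderOf x → Q x = 0
  r0 : ∀ x : G, 3 ∣ orderOf x → R x = 0
  pairs : ∀ x y : G, (np x y u : ℤ) * cc x * cc y =
    5 * (5184 + 864 * U x * U y - 216 * W x * W y - 81 * Q x * Q y + 64 * R x * R y)
  inv : ∀ t : G, orderOf t = 2 → np t t u = 0 ∨ np t t u = 5

/-- the 2-central involution of a group with `F25` -/
structure Z45 (U W Q R : G → ℤ) (z : G) : Prop where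
  ord : orderOf z = 2
  val : U z = -2 ∧ W z = 8 ∧ Q z = 0 ∧ R z = 9
  cl_eq : cl z = 45
  le_two : ∀ x : G, x ≠ 1 → ¬ 3 ∣ orderOf x → ¬ 5 ∣ orderOf x → U x ≤ 2

end

/-- the numerical shadow of `BD` -/
structure NB (a b : ℕ) (d : Fin 4 → ℤ) (f g : Fin 4 → Bool) : Prop where
  mod5 : ∀ i, d i % 5 = 1
  ne_one : ∀ i, d i ≠ 1
  dvd : ∀ i, d i ∣ 3 ^ a * 2 ^ b
  sum : 1 + ∑ i, d i = 0
  sq : 1 + ∑ i, d i ^ 2 ≤ 5 * 3 ^ a * 2 ^ b
  pw2 : ∀ i, ¬ 3 ∣ d i → f i = true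
  pw3 : ∀ i, ¬ 2 ∣ d i → g i = true
  prod : ∃ x y : ℤ, ∑ i with f i = true, d i = 2 ^ b * x ∧ ∑ i with g i = true, d i = 3 ^ a * y ∧
    x * y + (Finset.univ.filter fun i => f i = true).card * (Finset.univ.filter fun i => g i = true).card =
      5 * (Finset.univ.filter fun i => f i = true ∧ g i = true).card
  gap : ∀ (i : Fin 4) (S : Finset (Fin 4)), 1 + ∑ k ∈ S, d k ≠ 0 →
    ∃ j, j ∉ S ∧ (|d j| ≤ d i ^ 2 ∨ ∃ k ∈ S, |d j| ≤ d i ^ 2 * |d k|)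

/-- the surviving cases -/
def NOut (a b : ℕ) (d : Fin 4 → ℤ) (f g : Fin 4 → Bool) : Prop :=
  5 * 3 ^ a * 2 ^ b < 7200 ∨ ∃ σ : Equiv.Perm (Fin 4),
    (a = 4 ∧ b = 6 ∧ d (σ 0) = -64 ∧ d (σ 1) = 81 ∧ d (σ 2) = 6 ∧ d (σ 3) = -24) ∨
    (a = 4 ∧ b = 6 ∧ d (σ 0) = -64 ∧ d (σ 1) = 81 ∧ d (σ 2) = -54 ∧ d (σ 3) = 36 ∧ g (σ 2) = false) ∨
    (a = 6 ∧ b = 8 ∧ ¬ 3 ∣ d (σ 0) ∧ d (σ 1) = -729 ∧ d (σ 2) = 216 ∧
      f (σ 0) = true ∧ f (σ 1) = false ∧ f (σ 2) = false ∧ f (σ 3) = true)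

def Goal (G : Type u) [Group G] : Prop :=
  L2 G 5 ∨ L2 G 9 ∨ L2 G 11 ∨ L2 G 16 ∨ L2 G 31 ∨
    ∃ (F : Type) (_ : Field F) (_ : Fintype F), Fintype.card F = 4 ∧ Nonempty (G ≃* Cfsg.PSU 4 F 2)

/-! ### Sylow 3-subgroups of order 3 -/

def StepTri : Prop := ∀ (G : Type u) [Group G] [Fintype G] [IsSimpleGroup G], ¬ IsMulCommutative G →
  3 ∣ Nat.card G → ¬ 9 ∣ Nat.card G → ∃ X Y : G → ℤ, Tri X Y

def StepInt : Prop := ∀ (G : Type u) [Group G] [Fintype G] (X Y : G → ℤ), Tri X Y → TriInt X Y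

def StepDeg : Prop := ∀ a b q n : ℕ, q.Prime → 5 ≤ q → 1 < n → n % 3 = 1 → n ∣ 2 ^ a * 5 * q ^ b →
  n + 1 ∣ 2 ^ a * 5 * q ^ b →
  n = 4 ∨ (16 < q ∧ (n = q ∨ n + 1 = q)) ∨ (q = 7 ∧ n = 7) ∨ (q = 11 ∧ n = 10) ∨ (q = 13 ∧ n = 64)

/-- a rational character of prime degree -/
def StepPr : Prop := ∀ (G : Type u) [Group G] [Fintype G] [IsSimpleGroup G] (X : G → ℤ) (q : ℕ),
  ¬ IsMulCommutative G → q.Prime → 3 ≤ q → IZ X → X 1 = q →
  ¬ q ^ 2 ∣ Nat.card G ∧ ∀ x : G, orderOf x = q → centralizer ({x} : Set G) = zpowers x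

def StepSC : Prop := ∀ (G : Type u) [Group G] [Finite G] [IsSimpleGroup G] (q : ℕ), ¬ IsMulCommutative G →
  q.Prime → q ∣ Nat.card G → ¬ q ^ 2 ∣ Nat.card G →
  (∀ x : G, orderOf x = q → centralizer ({x} : Set G) = zpowers x) → ∃ (e : ℕ) (P : Sylow q G), SC q e P

/-- the orders in the conclusion of S3251 -/
def StepIx : Prop := ∀ (G : Type u) [Group G] [Finite G] [IsSimpleGroup G] (a b c d p : ℕ) (P : Sylow p G),
  ¬ IsMulCommutative G → p.Prime → p ≠ 2 → Nat.card G = 2 ^ a * 3 ^ b * 5 ^ c * 7 ^ d * p → SC p 2 P →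
  L2 G 5 ∨ L2 G 9 ∨ L2 G 16 ∨ Nat.card G ∈ [168, 504, 7800, 9828, 265680, 6920642400, 20160]

def StepBig : Prop := ∀ (G : Type u) [Group G] [Finite G] [IsSimpleGroup G] (a q : ℕ), ¬ IsMulCommutative G →
  q.Prime → 16 < q → Nat.card G = 2 ^ a * 3 * 5 * q → L2 G 16 ∨ L2 G 31

def Step11 : Prop := ∀ (G : Type u) [Group G] [Fintype G] [IsSimpleGroup G] (X Y : G → ℤ) (a : ℕ),
  ¬ IsMulCommutative G → Tri X Y → TriInt X Y → Y 1 = 10 → Nat.card G = 2 ^ a * 3 * 5 * 11 → a ≤ 11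

def Step13A : Prop := ∀ (G : Type u) [Group G] [Fintype G] [IsSimpleGroup G] (X Y : G → ℤ) (a b : ℕ),
  ¬ IsMulCommutative G → Tri X Y → TriInt X Y → Y 1 = 64 → Nat.card G = 2 ^ a * 3 * 5 * 13 ^ b → 2 ≤ b →
  ∀ g : G, orderOf g = 13 → X g = 0 ∨ X g = 26

def Step13B : Prop := ∀ (G : Type u) [Group G] [Finite G] (X : G → ℤ),
  IsCharacter G (fun g => (X g : ℂ)) → X 1 = 65 → (∀ g : G, orderOf g = 13 → X g = 0 ∨ X g = 26) →
  ¬ 13 ^ 2 ∣ Nat.card G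

def Step13C : Prop := ∀ (G : Type u) [Group G] [Fintype G] [IsSimpleGroup G] (X Y : G → ℤ) (a : ℕ),
  ¬ IsMulCommutative G → Tri X Y → Y 1 = 64 → Nat.card G = 2 ^ a * 3 * 5 * 13 → False

/-! ### order `5 * 3^a * 2^b` with automizer of order 4 -/

def StepBD : Prop := ∀ (G : Type u) [Group G] [Fintype G] [IsSimpleGroup G] (u : G) (a b : ℕ),
  ¬ IsMulCommutative G → Five u a b →
  ∃ (χ : Fin 4 → IrrCharacter G) (δ d : Fin 4 → ℤ) (f g : Fin 4 → Bool), BD u χ δ d f g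

def StepNB : Prop := ∀ (G : Type u) [Group G] [Fintype G] [IsSimpleGroup G] (u : G) (a b : ℕ)
  (χ : Fin 4 → IrrCharacter G) (δ d : Fin 4 → ℤ) (f g : Fin 4 → Bool),
  ¬ IsMulCommutative G → Five u a b → BD u χ δ d f g → NB a b d f g

/-- the main numerical case -/
def Num00 : Prop := ∀ (a b : ℕ) (d : Fin 4 → ℤ) (f g : Fin 4 → Bool), NB a b d f g →
  d 0 = -2 ^ b → d 1 = 3 ^ a → 6 ∣ d 2 → 6 ∣ d 3 →
  a = 4 ∧ b = 6 ∧ ((d 2 = 6 ∧ d 3 = -24) ∨ (d 2 = -24 ∧ d 3 = 6) ∨ (d 2 = -54 ∧ d 3 = 36) ∨ (d 2 = 36 ∧ d 3 = -54))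

/-- the second numerical case -/
def Num10 : Prop := ∀ (a b : ℕ) (d : Fin 4 → ℤ) (f g : Fin 4 → Bool), NB a b d f g →
  ¬ 3 ∣ d 0 → (d 1 = 3 ^ a ∧ d 0 + d 3 = -2 ^ (b + 1) ∨ d 1 = -3 ^ a ∧ d 0 + d 3 = 2 ^ (b + 1)) → 6 ∣ d 2 →
  (a = 2 ∧ b = 4) ∨ (a = 6 ∧ b = 8 ∧ d 1 = -729 ∧ d 2 = 216)

def StepNum : Prop := ∀ (a b : ℕ) (d : Fin 4 → ℤ) (f g : Fin 4 → Bool), NB a b d f g → NOut a b d f g

def Kill68 : Prop := ∀ (G : Type u) [Group G] [Fintype G] (u : G)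
  (χ : Fin 4 → IrrCharacter G) (δ d : Fin 4 → ℤ) (f g : Fin 4 → Bool) (σ : Equiv.Perm (Fin 4)),
  Five u 6 8 → BD u χ δ d f g → NB 6 8 d f g → ¬ 3 ∣ d (σ 0) → d (σ 1) = -729 → d (σ 2) = 216 →
  f (σ 0) = true → f (σ 1) = false → f (σ 2) = false → f (σ 3) = true → False

def Kill54 : Prop := ∀ (G : Type u) [Group G] [Fintype G] (u : G)
  (χ : Fin 4 → IrrCharacter G) (δ d : Fin 4 → ℤ) (f g : Fin 4 → Bool) (σ : Equiv.Perm (Fin 4)),
  Five u 4 6 → BD u χ δ d f g → NB 4 6 d f g → d (σ 0) = -64 → d (σ 1) = 81 → d (σ 2) = -54 → d (σ 3) = 36 →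
  g (σ 2) = false → False

def StepF : Prop := ∀ (G : Type u) [Group G] [Fintype G] (u : G)
  (χ : Fin 4 → IrrCharacter G) (δ d : Fin 4 → ℤ) (f g : Fin 4 → Bool) (σ : Equiv.Perm (Fin 4)),
  Five u 4 6 → BD u χ δ d f g → NB 4 6 d f g → d (σ 0) = -64 → d (σ 1) = 81 → d (σ 2) = 6 → d (σ 3) = -24 →
  ∃ U W Q R : G → ℤ, F25 u U W Q R

def StepZ : Prop := ∀ (G : Type u) [Group G] [Fintype G] [IsSimpleGroup G] (u : G) (U W Q R : G → ℤ),
  F25 u U W Q R → ∃ z : G, Z45 U W Q R z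

def StepT : Prop := ∀ (G : Type u) [Group G] [Fintype G] [IsSimpleGroup G] (u z : G) (U W Q R : G → ℤ),
  F25 u U W Q R → Z45 U W Q R z → ∀ t : G, IsConj z t → (t * z) ^ 2 = 1 ∨ (t * z) ^ 3 = 1

theorem sum_filter_perm (σ : Equiv.Perm (Fin 4)) (p : Fin 4 → Prop) [DecidablePred p] (d : Fin 4 → ℤ) :
    ∑ i with p (σ i), d (σ i) = ∑ i with p i, d i := by
  simp only [Finset.sum_filter]
  exact Equiv.sum_comp σ fun i => if p i then d i else 0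

theorem card_filter_perm (σ : Equiv.Perm (Fin 4)) (p : Fin 4 → Prop) [DecidablePred p] :
    (Finset.univ.filter fun i => p (σ i)).card = (Finset.univ.filter p).card := by
  have := sum_filter_perm σ p fun _ => 1
  simpa using this

theorem NB.perm {a b : ℕ} {d : Fin 4 → ℤ} {f g : Fin 4 → Bool} (h : NB a b d f g) (σ : Equiv.Perm (Fin 4)) :
    NB a b (fun i => d (σ i)) (fun i => f (σ i)) (fun i => g (σ i)) where
  mod5 i := h.mod5 _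
  ne_one i := h.ne_one _
  dvd i := h.dvd _
  sum := by rw [Equiv.sum_comp σ d]; exact h.sum
  sq := by rw [Equiv.sum_comp σ fun i => d i ^ 2]; exact h.sq
  pw2 i := h.pw2 _
  pw3 i := h.pw3 _
  prod := by
    obtain ⟨x, y, h1, h2, h3⟩ := h.prod
    refine ⟨x, y, ?_, ?_, ?_⟩
    · rw [← h1]; exact sum_filter_perm σ (fun i => f i = true) d
    · rw [← h2]; exact sum_filter_perm σ (fun i => g i = true) d
    · rw [card_filter_perm σ fun i => f i = true, card_filter_perm σ fun i => g i = true,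
        card_filter_perm σ fun i => f i = true ∧ g i = true]
      exact h3
  gap i S hS := by
    obtain ⟨j, hj, h1⟩ := h.gap (σ i) (S.map σ.toEmbedding) (by simpa using hS)
    refine ⟨σ.symm j, fun hm => hj (Finset.mem_map.2 ⟨_, hm, by simp⟩), ?_⟩
    simp only [Equiv.apply_symm_apply]
    rcases h1 with h1 | ⟨k, hk, h1⟩
    · exact Or.inl h1
    · obtain ⟨k', hk', rfl⟩ := Finset.mem_map.1 hk
      exact Or.inr ⟨k', hk', h1⟩

end CL.T35
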