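/-
Project T35: the five characters not vanishing at a self-centralizing element of order 5.
-/
import Cfsg.Agent.T35.Defs
import Cfsg.Agent.Fgs.Ix2CA
import Cfsg.Agent.Blk.DefectNum
import Cfsg.Agent.Blk.Transport
import Cfsg.Agent.Char.Burnside
import Cfsg.Agent.Char.Linear

set_option autoImplicit false
set_option linter.unusedSectionVars false

namespace CL.T35

open Cfsg Subgroup CL.Char CL.Blk
open CL.Ix2 (cc cl np L2 ca_np ca_sq ca_inv cc_mul_cl)

universe u

namespace BDJ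

variable {G : Type u} [Group G] {u : G}

theorem np_inv (ho : orderOf u = 5) (hc : centralizer ({u} : Set G) = zpowers u) {t : G} (ht : orderOf t = 2) :
    np t t u = 0 ∨ np t t u = 5 := by
  rw [ca_np]
  rcases isEmpty_or_nonempty {x : G | IsConj t x ∧ IsConj t (x⁻¹ * u)} with h | ⟨⟨s, h1, h2⟩⟩
  · exact .inl Nat.card_of_isEmpty
  have h3 := ca_inv (ca_sq ht h1) (ca_sq ht h2)
  have tc : ∀ b ∈ zpowers u, IsConj t (s * b) := fun b hb => by
    have h4 : b ^ 5 = 1 := orderOf_dvd_iff_pow_eq_one.1 (ho ▸ orderOf_dvd_of_mem_zpowers hb)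
    have h5 : s * b ^ 3 * s⁻¹ = (b ^ 3)⁻¹ := by
      obtain ⟨n, rfl⟩ := hb
      rw [← conj_pow, ← conj_zpow, h3, inv_zpow, inv_pow]
    refine h1.trans (isConj_iff.2 ⟨(b ^ 3)⁻¹, ?_⟩)
    calc (b ^ 3)⁻¹ * s * (b ^ 3)⁻¹⁻¹ = s * b ^ 3 * s⁻¹ * s * b ^ 3 := by rw [h5, inv_inv]
      _ = s * b * b ^ 5 := by group
      _ = _ := by rw [h4, mul_one]
  have key : ∀ x, IsConj t x → IsConj t (x⁻¹ * u) → s⁻¹ * x ∈ zpowers u := fun x a b => by
    rw [← hc, mem_centralizer_singleton_iff]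
    calc s⁻¹ * x * u = s⁻¹ * (x * u * x⁻¹) * x := by group
      _ = _ := by rw [ca_inv (ca_sq ht a) (ca_sq ht b), ← h3]; group
  have key2 : ∀ b ∈ zpowers u, IsConj t ((s * b)⁻¹ * u) := fun b hb => by
    rw [inv_eq_of_mul_eq_one_right (ca_sq ht (tc b hb)), mul_assoc]
    exact tc _ (mul_mem hb (mem_zpowers u))
  refine .inr (Eq.trans (Nat.card_congr
    { toFun := fun x => (⟨s⁻¹ * x, key x x.2.1 x.2.2⟩ : zpowers u)
      invFun := fun b => ⟨s * b, tc _ b.2, key2 _ b.2⟩
      left_inv := fun x => Subtype.ext (by simp)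
      right_inv := fun b => Subtype.ext (by simp) }) ((Nat.card_zpowers u).trans ho))

theorem cop [Finite G] [IsSimpleGroup G] (hG : ¬ IsMulCommutative G) {χ : G → ℂ} (h : IsIrrCharacter G χ)
    (h1 : χ ≠ fun _ => 1) {z : G} (hz : z ≠ 1) (hc : (cl z).Coprime (charDegree χ)) : χ z = 0 := by
  have h2 := h.charCenter_eq_center (h.charKer_eq_bot_of_simple h1)
  have h3 := h.isCharacter.mem_charCenter (g := z)
  rw [h.isCharacter.norm_one, h2] at h3
  obtain ⟨n, ρ, hρ, rfl⟩ := h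
  rw [charDegree_character] at hc h3
  refine (char_eq_zero_or_norm_eq_of_coprime ρ z hc.symm).resolve_right fun e => ?_
  rcases (inferInstance : (center G).Normal).eq_bot_or_eq_top with e' | e'
  · exact hz (mem_bot.1 (e' ▸ h3.2 e))
  · exact hG ⟨⟨fun a b => mem_center_iff.1 (e' ▸ mem_top b) a⟩⟩

theorem nz {p : ℕ} {M : Ideal AlgInt} (hM : IsPModular p M) {χ : IrrCharacter G} (h : χ ∈ principalBlock M G) {z : G}
    (hz : ¬ p ∣ cl z) : (χ : G → ℂ) z ≠ 0 := fun e =>
  hz ((memLocalIdeal_natCast_iff hM _).1 (by simpa [centralChar, e, cl] using h z))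

theorem four {ι : Type*} (T : Finset ι) (v d : ι → ℤ) (h0 : ∀ i ∈ T, v i ≠ 0) (h1 : ∑ i ∈ T, v i * v i = 4)
    (h2 : 1 + ∑ i ∈ T, d i * v i = 0) : (∀ i ∈ T, v i = 1 ∨ v i = -1) ∧ T.card = 4 := by
  have h3 : ∀ i ∈ T, v i = 1 ∨ v i = -1 := fun i hi => by
    by_contra h4
    have h5 : 4 ≤ v i * v i := by
      have := h0 i hi
      rcases (by omega : 2 ≤ v i ∨ v i ≤ -2) with h | h <;> nlinarith
    have h6 : (2 : ℤ) ∣ ∑ i ∈ T, d i * v i := Finset.dvd_sum fun j hj => by
      by_cases e : i = j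
      · subst e
        have := Finset.single_le_sum (f := fun i => v i * v i) (fun i _ => mul_self_nonneg _) hi
        exact Dvd.dvd.mul_left (Int.prime_two.dvd_of_dvd_pow (n := 2) ⟨2, by linarith⟩) _
      · have := Finset.add_le_sum (f := fun i => v i * v i) (fun i _ => mul_self_nonneg _) hi hj e
        have := mul_self_pos.2 (h0 j hj)
        linarith
    omega
  refine ⟨h3, ?_⟩
  rw [Finset.sum_congr rfl (g := fun _ => 1) fun i hi => by rcases h3 i hi with e | e <;> simp [e]] at h1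
  exact_mod_cast (by simpa using h1 : (T.card : ℤ) = 4)

end BDJ

open BDJ in
theorem stepBD : StepBD.{u} := by
  intro G _ _ _ u a b hG h
  classical
  have hcj : ∀ (ψ : IrrCharacter G) (x : G), orderOf x = 5 → (ψ : G → ℂ) x = (ψ : G → ℂ) u := fun ψ x hx =>
    (ψ.2.isClassFunction.apply_eq_of_isConj (h.conj x hx)).symm
  have hint : ∀ ψ : IrrCharacter G, ∃ z : ℤ, (ψ : G → ℂ) u = z := fun ψ =>
    genChar_exists_int_of_forall_pow ψ.2.isGeneralizedCharacter fun m hm => hcj ψ _ (by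
      rw [(hm.symm.coprime_dvd_left (orderOf_dvd_natCard u)).orderOf_pow, h.ord])
  choose v hv using hint
  have hv' : ∀ ψ : IrrCharacter G, (ψ : G → ℂ) u⁻¹ = v ψ := fun ψ => (hcj ψ _ ((orderOf_inv u).trans h.ord)).trans (hv ψ)
  have v1 : (v (irrOne G) : ℂ) = 1 := (hv _).symm
  let T : Finset (IrrCharacter G) := Finset.univ.filter fun ψ => ψ ≠ irrOne G ∧ v ψ ≠ 0
  have hT : ∀ ψ, ψ ∈ T ↔ ψ ≠ irrOne G ∧ v ψ ≠ 0 := fun ψ => by simp [T]
  have S0 : ∀ F : IrrCharacter G → ℂ, (∀ ψ, v ψ = 0 → F ψ = 0) → ∑ ψ, F ψ = F (irrOne G) + ∑ ψ ∈ T, F ψ := fun F hF => by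
    rw [← Finset.add_sum_erase _ _ (Finset.mem_univ (irrOne G))]
    refine congrArg _ (Finset.sum_subset (fun ψ e => by simp [((hT ψ).1 e).1]) fun ψ e e' => hF ψ ?_).symm
    by_contra e''
    exact e' ((hT ψ).2 ⟨(Finset.mem_erase.1 e).1, e''⟩)
  have col : ∀ x, 1 + ∑ ψ ∈ T, (ψ : G → ℂ) x * v ψ = 5 * classInd u x := fun x => by
    have := sum_irr_mul_apply_inv x u
    rw [S0 _ fun ψ e => by rw [hv', e]; simp, h.cent u h.ord, Nat.card_zpowers, h.ord] at this
    simpa [hv', coe_irrOne, v1] using this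
  have col0 : ∀ x, orderOf x ≠ 5 → 1 + ∑ ψ ∈ T, (ψ : G → ℂ) x * v ψ = 0 := fun x hx => by
    rw [col, classInd_of_not_isConj fun e => hx ?_, mul_zero]
    obtain ⟨c, rfl⟩ := isConj_iff.1 e
    exact ((MulAut.conj c).orderOf_eq u).trans h.ord
  obtain ⟨hs, h4⟩ := four T v (fun ψ => charDegree (ψ : G → ℂ)) (fun ψ e => ((hT ψ).1 e).2) (by
    have := col u
    simp only [hv, classInd_of_isConj (IsConj.refl u)] at this
    exact_mod_cast (by linear_combination this : ∑ ψ ∈ T, (v ψ : ℂ) * v ψ = 4)) (by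
    have := col0 1 (by simp)
    simp only [← fun ψ : IrrCharacter G => ψ.2.cast_charDegree] at this
    exact_mod_cast this)
  let e := (Finset.equivFinOfCardEq h4).symm
  have S1 : ∀ F : IrrCharacter G → ℂ, ∑ ψ ∈ T, F ψ = ∑ i, F (e i) := fun F => by
    rw [← Finset.sum_coe_sort, ← e.sum_comp]
  have rel : ∀ x, orderOf x ≠ 5 → 1 + ∑ i, (v (e i) : ℂ) * ((e i : IrrCharacter G) : G → ℂ) x = 0 := fun x hx => by
    simpa only [S1, mul_comm] using col0 x hx
  have blk : ∀ (p : ℕ) (M : Ideal AlgInt), IsPModular p M → ¬ p ∣ 5 → ∀ x, p ∣ orderOf x →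
      ∑ i with decide ((e i : IrrCharacter G) ∉ principalBlock M G) = true,
        (v (e i) : ℂ) * ((e i : IrrCharacter G) : G → ℂ) x = 0 := fun p M hM hp x hx => by
    obtain ⟨y, hy⟩ := exists_isPPart hM.1 x
    have h1 := block_orth hM (tr_isPBlock_principalBlock (G := G)) hy (isPPart_one (y := u) (h.ord ▸ hp))
      (by simpa using isPPart_ne_one hy hx)
    rw [Finset.sum_filter, S0 _ fun ψ e => by rw [hv', e]; simp, S1, if_pos (tr_irrOne_mem_principalBlock hM)] at h1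
    have h2 := rel x fun e => hp (e ▸ hx)
    simp only [coe_irrOne, mul_one, hv', v1] at h1
    refine Eq.trans ?_ (sub_eq_zero.2 (add_left_cancel (h2.trans h1.symm)))
    rw [Finset.sum_filter, ← Finset.sum_sub_distrib]
    refine Finset.sum_congr rfl fun i _ => ?_
    by_cases e' : (e i : IrrCharacter G) ∈ principalBlock M G <;> simp [e', mul_comm]
  obtain ⟨M2, hM2⟩ := exists_isPModular' Nat.prime_two
  obtain ⟨M3, hM3⟩ := exists_isPModular' Nat.prime_three
  have n1 : ∀ i, ((e i : IrrCharacter G) : G → ℂ) ≠ fun _ => 1 := fun i e' => ((hT _).1 (e i).2).1 (Subtype.ext e')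
  refine ⟨fun i => e i, fun i => v (e i), fun i => v (e i) * charDegree ((e i : IrrCharacter G) : G → ℂ),
    fun i => decide ((e i : IrrCharacter G) ∉ principalBlock M2 G),
    fun i => decide ((e i : IrrCharacter G) ∉ principalBlock M3 G), Subtype.val_injective.comp e.injective, n1,
    fun i => hs _ (e i).2, fun i x hx => (hcj _ x hx).trans (hv _), fun ψ h1 h2 x hx => ?_, fun i => ?_, rel,
    fun x y => ?_, fun t ht => np_inv h.ord (h.cent u h.ord) ht, fun i z hz hc => cop hG (e i).1.2 (n1 i) hz ?_,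
    blk 2 M2 hM2 (by norm_num), blk 3 M3 hM3 (by norm_num), fun i hi z hz => nz hM2 (by simpa using hi) hz,
    fun i hi z hz => nz hM3 (by simpa using hi) hz⟩
  · rw [hcj ψ x hx, hv, Int.cast_eq_zero]
    by_contra h3
    exact h2 (e.symm ⟨ψ, (hT ψ).2 ⟨fun e' => h1 (e' ▸ rfl), h3⟩⟩) (by simp)
  · rw [← (e i).1.2.cast_charDegree]; push_cast; rfl
  · have h1 := classAlg_card_pairs x y u
    rw [S0 _ fun ψ e => by rw [hv, e]; simp, S1, card_isConj_eq_index_centralizer,
      card_isConj_eq_index_centralizer] at h1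
    have h2 : ∀ i, ((e i : IrrCharacter G) : G → ℂ) x * ((e i : IrrCharacter G) : G → ℂ) y *
        starRingEnd ℂ (((e i : IrrCharacter G) : G → ℂ) u) / ((e i : IrrCharacter G) : G → ℂ) 1 =
        ((e i : IrrCharacter G) : G → ℂ) x * ((e i : IrrCharacter G) : G → ℂ) y /
          (v (e i) * charDegree ((e i : IrrCharacter G) : G → ℂ) : ℤ) := fun i => by
      rw [hv, ← (e i).1.2.cast_charDegree]
      rcases hs _ (e i).2 with e' | e' <;> simp [e', div_neg, neg_div]
    simp only [h2, coe_irrOne, map_one, mul_one, div_one] at h1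
    have h3 : (cc x : ℂ) * (centralizer ({x} : Set G)).index = Nat.card G := by exact_mod_cast cc_mul_cl x
    have h5 : (cc y : ℂ) * (centralizer ({y} : Set G)).index = Nat.card G := by exact_mod_cast cc_mul_cl y
    have h6 : (Nat.card G : ℂ) ≠ 0 := Nat.cast_ne_zero.2 Nat.card_pos.ne'
    rw [np, h1]
    generalize (1 : ℂ) + ∑ i : Fin 4, _ = s
    field_simp
    linear_combination s * (cc y * (centralizer ({y} : Set G)).index) * h3 + s * Nat.card G * h5
  · rcases hs _ (e i).2 with e' | e' <;> simpa [e'] using hc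

end CL.T35
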