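/-
Project T35: consecutive degrees.
-/
import Cfsg.Agent.T35.Defs

set_option autoImplicit false

namespace CL.T35

theorem deg_cof (r ε : ℤ) (hr : Odd r) (hε : ε = 1 ∨ ε = -1) (h : ℕ) :
    ∃ c : ℤ, Odd c ∧ r ^ (2 * h + 1) + ε = (r + ε) * c := by
  induction h with
  | zero => exact ⟨1, odd_one, by simp⟩
  | succ h ih =>
    obtain ⟨c, h1, h2⟩ := ih
    have e : ε * ε = 1 := by rcases hε with rfl | rfl <;> simp
    have ho : Odd ε := by rcases hε with rfl | rfl <;> simp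
    refine ⟨r * r * c - ε * (r - ε), ((hr.mul hr).mul h1).sub_even ((hr.sub_odd ho).mul_left _), ?_⟩
    linear_combination r * r * h2 - ε * e

/-- proper powers next to `2 ^ i` or `5 * 2 ^ i` -/
theorem deg_pow {r k v : ℕ} (hr : Odd r) (h5 : 5 ≤ r) (h3 : ¬ 3 ∣ r) (hv : ∀ c, Odd c → c ∣ v → c ∣ 5)
    (e : r ^ k = v + 1 ∨ v = r ^ k + 1) : k ≤ 1 := by
  by_contra hk
  obtain ⟨h, rfl | rfl⟩ := Nat.even_or_odd' k
  · have hs : Odd (r ^ h) := hr.pow
    have hs3 : ¬ 3 ∣ r ^ h := fun hd => h3 (Nat.prime_three.dvd_of_dvd_pow hd)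
    have hs5 : 5 ≤ r ^ h := h5.trans (Nat.le_self_pow (by omega) r)
    rw [pow_mul', sq] at e
    generalize r ^ h = s at e hs hs3 hs5
    rcases e with e | e
    · have : (s * s) % 3 = 1 := by
        rw [Nat.mul_mod]
        have : s % 3 = 1 ∨ s % 3 = 2 := by omega
        rcases this with h | h <;> rw [h]
      exact absurd (hv 3 (by decide) (by omega)) (by decide)
    · obtain ⟨u, rfl⟩ := hs
      have := Nat.le_of_dvd (by decide) (hv (2 * (u * u + u) + 1) (odd_two_mul_add_one _) ⟨2, by rw [e]; ring⟩)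
      nlinarith
  · obtain ⟨ε, hε, e'⟩ : ∃ ε : ℤ, (ε = 1 ∨ ε = -1) ∧ (r : ℤ) ^ (2 * h + 1) + ε = v := by
      rcases e with e | e
      · exact ⟨-1, .inr rfl, by rw [← Nat.cast_pow, e]; push_cast; ring⟩
      · exact ⟨1, .inl rfl, by rw [e]; push_cast; ring⟩
    obtain ⟨c, c1, c2⟩ := deg_cof r ε (by exact_mod_cast hr) hε h
    have c3 := Nat.le_of_dvd (by decide) (hv c.natAbs (Int.natAbs_odd.2 c1)
      (Int.natCast_dvd_natCast.1 (Int.natAbs_dvd.2 ⟨r + ε, by rw [← e', c2, mul_comm]⟩)))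
    have c4 : c ≤ 5 := by omega
    have c5 : (r : ℤ) ^ 3 ≤ r ^ (2 * h + 1) := pow_le_pow_right₀ (by omega) (by omega)
    have c6 : (5 : ℤ) ≤ r := by omega
    have c7 : (r + ε) * c ≤ (r + ε) * 5 := mul_le_mul_of_nonneg_left c4 (by omega)
    have c8 : (25 : ℤ) * r ≤ r ^ 3 := by nlinarith [mul_le_mul c6 c6 (by norm_num) (by omega)]
    omega

theorem deg_two (i : ℕ) : ∃ m j, j < 4 ∧ i = 4 * m + j ∧ 2 ^ i % 15 = 2 ^ j := by
  refine ⟨i / 4, i % 4, Nat.mod_lt _ (by decide), (Nat.div_add_mod i 4).symm, ?_⟩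
  have : i % 4 < 4 := Nat.mod_lt _ (by decide)
  conv_lhs => rw [← Nat.div_add_mod i 4, pow_add, pow_mul, Nat.mul_mod, Nat.pow_mod]
  generalize i % 4 = j at this
  interval_cases j <;> simp

theorem deg_aur {q k i : ℕ} (hq : q.Prime) (h7 : 7 ≤ q) (hk : k ≠ 0) (e : 5 * q ^ k = 2 ^ i + 1) :
    q = 13 ∧ 2 ^ i = 64 := by
  obtain ⟨m, j, hj, rfl, h1⟩ := deg_two i
  obtain rfl : j = 2 := by interval_cases j <;> omega
  have hx : ¬ q ∣ 4 * 2 ^ m := fun hd => by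
    rw [show 4 * 2 ^ m = 2 ^ (m + 2) by ring] at hd
    have := Nat.le_of_dvd (by decide) (hq.dvd_of_dvd_pow hd)
    omega
  have h0 : 0 < 2 ^ m := by positivity
  have hqk : q ≤ q ^ k := Nat.le_self_pow hk q
  rw [show 2 ^ (4 * m + 2) = 4 * (2 ^ m) ^ 4 by ring] at e ⊢
  generalize 2 ^ m = x at e hx h0
  obtain ⟨y, rfl⟩ : ∃ y, x = y + 1 := ⟨x - 1, by omega⟩
  have e' : 5 * q ^ k = (2 * y * y + 2 * y + 1) * (2 * y * y + 2 * y + 1 + 4 * (y + 1)) := by rw [e]; ring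
  have key : ∀ A, A ∣ 5 * q ^ k → ¬ q ∣ A → A ≤ 5 := fun A h1 h2 => Nat.le_of_dvd (by decide)
    ((Nat.Coprime.pow_right k ((hq.coprime_iff_not_dvd.2 h2).symm)).dvd_of_dvd_mul_right h1)
  have hy : y ≤ 1 := by
    by_cases hA : q ∣ 2 * y * y + 2 * y + 1
    · have := key _ (e' ▸ dvd_mul_left _ _) fun hB => hx ((Nat.dvd_add_right hA).1 hB)
      nlinarith
    · have := key _ (e' ▸ dvd_mul_right _ _) hA
      nlinarith
  interval_cases y
  · omega
  · have : q ∣ 13 := (show q ^ k = 13 by omega) ▸ dvd_pow_self q hk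
    exact ⟨(Nat.prime_dvd_prime_iff_eq hq (by norm_num)).1 this, by norm_num⟩

theorem deg_main {a b q o v : ℕ} (hq : q.Prime) (h5 : 5 ≤ q) (ho : Odd o) (h1 : 1 < o)
    (e : o = v + 1 ∨ v = o + 1) (d1 : o ∣ 2 ^ a * 5 * q ^ b) (d2 : v ∣ 2 ^ a * 5 * q ^ b) :
    o = 5 ∨ (o = q ∧ ¬ 7 ∣ v) ∨ (q = 13 ∧ v = 64 ∧ o = 65) ∨ (v = o + 1 ∧ 3 ∣ o) := by
  have hc : o.Coprime v := by
    rcases e with rfl | rfl <;> simp
  rw [mul_assoc] at d1
  replace d1 := (Nat.Coprime.pow_right a (Nat.coprime_two_right.2 ho)).dvd_of_dvd_mul_left d1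
  by_cases hqo : q ∣ o
  swap
  · have := (Nat.Coprime.pow_right b (hq.coprime_iff_not_dvd.2 hqo).symm).dvd_of_dvd_mul_right d1
    exact .inl (((Nat.dvd_prime (by norm_num)).1 this).resolve_left (by omega))
  replace d2 := (Nat.Coprime.pow_right b (hc.coprime_dvd_left hqo).symm).dvd_of_dvd_mul_right d2
  have hv : ∀ c, Odd c → c ∣ v → c ∣ 5 := fun c c1 c2 =>
    (Nat.Coprime.pow_right a (Nat.coprime_two_right.2 c1)).dvd_of_dvd_mul_left (c2.trans d2)
  have hA : ∀ k, o = q ^ k → o = q ∧ ¬ 7 ∣ v := fun k ek => by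
    have := deg_pow (k := k) (hq.odd_of_ne_two (by omega)) h5
      (fun hd => by have := (Nat.prime_dvd_prime_iff_eq Nat.prime_three hq).1 hd; omega) hv (ek ▸ e)
    refine ⟨?_, fun hd => absurd (hv 7 (by decide) hd) (by decide)⟩
    interval_cases k
    · simp at ek; omega
    · simpa using ek
  by_cases h5o : 5 ∣ o
  swap
  · obtain ⟨k, -, ek⟩ := (Nat.dvd_prime_pow hq).1
      (((Nat.prime_five.coprime_iff_not_dvd.2 h5o).symm).dvd_of_dvd_mul_left d1)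
    exact .inr (.inl (hA k ek))
  obtain ⟨i, -, rfl⟩ := (Nat.dvd_prime_pow Nat.prime_two).1
    ((hc.coprime_dvd_left h5o).symm.dvd_of_dvd_mul_right d2)
  obtain ⟨o', rfl⟩ := h5o
  obtain ⟨k, -, rfl⟩ := (Nat.dvd_prime_pow hq).1 (Nat.dvd_of_mul_dvd_mul_left (by decide) d1)
  obtain rfl | h6 := h5.eq_or_lt
  · exact .inr (.inl (hA (k + 1) (by ring)))
  have h7 : 7 ≤ q := by
    by_contra h
    obtain rfl : q = 6 := by omega
    exact absurd hq (by decide)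
  obtain rfl | hk := eq_or_ne k 0
  · exact .inl (by simp)
  rcases e with e | e
  · obtain ⟨e1, e2⟩ := deg_aur hq h7 hk e
    exact .inr (.inr (.inl ⟨e1, e2, by omega⟩))
  · obtain ⟨m, j, hj, -, h2⟩ := deg_two i
    refine .inr (.inr (.inr ⟨e, ?_⟩))
    interval_cases j <;> omega

theorem stepDeg : StepDeg := by
  intro a b q n hq h5 h1 h3 d1 d2
  have hs : 16 < q ∨ q = 5 ∨ q = 7 ∨ q = 11 ∨ q = 13 := by
    by_contra h
    have : q ≤ 16 := by omega
    interval_cases q <;> first | omega | exact absurd hq (by decide)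
  obtain h | h := Nat.even_or_odd n
  · have := deg_main hq h5 h.add_one (by omega) (.inl rfl) d2 d1
    omega
  · have := deg_main hq h5 h h1 (.inr rfl) d1 d2
    omega

end CL.T35
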