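/-
Project T35: two sets of degrees that do not occur, and the data of the group of order 25920.
-/
import Cfsg.Agent.T35.Defs
import Cfsg.Agent.Char.Codeg
import Cfsg.Agent.Blk.DefectNum

set_option autoImplicit false
set_option linter.unusedSectionVars false

namespace CL.T35

open Cfsg Subgroup CL.Char
open CL.Ix2 (cc cl np L2)

universe u

namespace KillJ

variable {G : Type u} [Group G] [Fintype G] {u : G} {a b : ℕ} {χ : Fin 4 → IrrCharacter G} {δ d : Fin 4 → ℤ}
  {f g : Fin 4 → Bool}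

theorem perm (h : BD u χ δ d f g) (σ : Equiv.Perm (Fin 4)) :
    BD u (fun i => χ (σ i)) (fun i => δ (σ i)) (fun i => d (σ i)) (fun i => f (σ i)) fun i => g (σ i) where
  inj := h.inj.comp σ.injective
  ne_one i := h.ne_one _
  sign i := h.sign _
  val i := h.val _
  other ψ h1 h2 := h.other ψ h1 fun i => by simpa using h2 (σ.symm i)
  deg i := h.deg _
  rel x hx := by rw [Equiv.sum_comp σ fun i => δ i * (χ i : G → ℂ) x]; exact h.rel x hx
  pairs x y := by rw [Equiv.sum_comp σ fun i => (χ i : G → ℂ) x * (χ i : G → ℂ) y / d i]; exact h.pairs x y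
  inv := h.inv
  cop i := h.cop _
  v2 x hx := by
    rw [← h.v2 x hx, Finset.sum_filter, Finset.sum_filter]
    exact Equiv.sum_comp σ fun i => if f i = true then δ i * (χ i : G → ℂ) x else 0
  v3 x hx := by
    rw [← h.v3 x hx, Finset.sum_filter, Finset.sum_filter]
    exact Equiv.sum_comp σ fun i => if g i = true then δ i * (χ i : G → ℂ) x else 0
  nz2 i := h.nz2 _
  nz3 i := h.nz3 _

theorem dg (h : BD u χ δ d f g) (i : Fin 4) :
    charDegree (χ i : G → ℂ) = (d i).natAbs ∧ d i = δ i * (d i).natAbs := by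
  have h1 := h.deg i
  rw [← (χ i).2.cast_charDegree] at h1
  have h2 : d i = δ i * charDegree (χ i : G → ℂ) := by exact_mod_cast h1
  rcases h.sign i with e | e <;> rw [e] at h2 ⊢ <;> omega

theorem one (h : BD u χ δ d f g) (i : Fin 4) : (χ i : G → ℂ) 1 = (d i).natAbs := by
  rw [← (dg h i).1, (χ i).2.cast_charDegree]

theorem rat (hu : orderOf u = 5) (h : BD u χ δ d f g) (i : Fin 4) (hi : ∀ j, (d j).natAbs = (d i).natAbs → j = i)
    (x : G) : ∃ n : ℤ, (χ i : G → ℂ) x = n := by
  refine exists_int_of_forall_ringEquiv (isChar_isIntegral (χ i).2.isCharacter x) fun σ => ?_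
  obtain ⟨j, hj⟩ : ∃ j, galIrr σ (χ i) = χ j := by
    by_contra! hn
    have := h.other _ (fun e => h.ne_one i (funext fun y => σ.injective ((congrFun e y).trans (map_one σ).symm)))
      hn u hu
    rw [galIrr_apply, h.val i u hu, map_intCast, Int.cast_eq_zero] at this
    rcases h.sign i with e | e <;> omega
  have e : (χ j : G → ℂ) 1 = (χ i : G → ℂ) 1 := by rw [← hj, galIrr_apply, one h i, map_natCast]
  rw [one h, one h, Nat.cast_inj] at e
  rw [← galIrr_apply, hj, hi j e]

theorem ord5 (hF : Five u a b) {x y : G} (hx : orderOf x = 5) (h : y * x = x * y) : y = 1 ∨ orderOf y = 5 := by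
  have := orderOf_dvd_of_mem_zpowers (hF.cent x hx ▸ mem_centralizer_singleton_iff.2 h)
  rw [hx] at this
  exact ((Nat.dvd_prime Nat.prime_five).1 this).imp_left orderOf_eq_one_iff.1

theorem cc5 (hF : Five u a b) {z : G} (h1 : orderOf z ≠ 1) (h5 : orderOf z ≠ 5) : ¬ 5 ∣ cc z := fun h => by
  have := Fact.mk Nat.prime_five
  obtain ⟨x, hx⟩ := exists_prime_orderOf_dvd_card' 5 h
  exact (ord5 hF ((orderOf_coe x).trans hx) (mem_centralizer_singleton_iff.1 x.2).symm).elim
    (mt orderOf_eq_one_iff.2 h1) h5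

theorem mul (z : G) : cc z * cl z = Nat.card G := card_mul_index _

theorem m81 : ∀ a : ZMod 81, 5832 - 8 * a ^ 2 + 27 * (a - 1) ^ 2 ∉ [0, 23, 45] := by decide +kernel

theorem k68 (hF : Five u 6 8) (h : BD u χ δ d f g) (h0 : d 0 ∣ 3 ^ 6 * 2 ^ 8) (d0 : ¬ 3 ∣ d 0) (d1 : d 1 = -729)
    (d2 : d 2 = 216) (f0 : f 0 = true) (f1 : f 1 = false) (f2 : f 2 = false) (f3 : f 3 = true) : False := by
  obtain ⟨z, hz, ho⟩ := Ix2.exists_central (G := G) Nat.prime_two (by rw [hF.card]; norm_num)
  have c2 : (cl z).Coprime 2 := (Nat.Prime.coprime_iff_not_dvd Nat.prime_two).2 ho |>.symm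
  have e0 := h.cop 0 z (fun e => by simp [e] at hz) (by
    have h1 : (d 0).natAbs ∣ 3 ^ 6 * 2 ^ 8 := by simpa using Int.natAbs_dvd_natAbs.2 h0
    have h2 : (d 0).natAbs.Coprime (3 ^ 6) := Nat.Coprime.pow_right _
      ((Nat.Prime.coprime_iff_not_dvd Nat.prime_three).2 fun e => d0 (Int.ofNat_dvd_left.2 e)).symm
    exact (c2.pow_right 8).coprime_dvd_right (h2.dvd_of_dvd_mul_left h1))
  have e3 : (χ 3 : G → ℂ) z = 0 := by
    have := h.v2 z (hz ▸ dvd_rfl)
    rw [Finset.sum_filter, Fin.sum_univ_four] at this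
    rcases h.sign 3 with e | e <;> simpa [f0, f1, f2, f3, e0, e] using this
  have hi : ∀ i, ∃ n : ℤ, (χ i : G → ℂ) z = n := fun i =>
    genChar_exists_int_of_forall_pow (χ i).2.isGeneralizedCharacter fun m hm => by
      obtain ⟨k, rfl⟩ : Odd m := Nat.coprime_two_right.1 (hm.coprime_dvd_right (by rw [hF.card]; norm_num))
      rw [pow_succ, pow_mul, ← hz, pow_orderOf_eq_one, one_pow, one_mul]
  obtain ⟨r, hr⟩ := hi 1
  obtain ⟨s, hs⟩ := hi 2
  have δ1 : δ 1 = -1 := by have := (dg h 1).2; rw [d1] at this; norm_num at this; omega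
  have δ2 : δ 2 = 1 := by have := (dg h 2).2; rw [d2] at this; norm_num at this; omega
  have e1 := h.rel z (by omega)
  rw [Fin.sum_univ_four, e0, e3, hr, hs, δ1, δ2] at e1
  have e2 : s = r - 1 := by
    have : (s : ℂ) = r - 1 := by push_cast at e1; linear_combination e1
    exact_mod_cast this
  have hm := mul z
  rw [hF.card] at hm
  obtain ⟨k, hk⟩ : 2 ^ 8 ∣ cc z := (c2.pow_right 8).symm.dvd_of_dvd_mul_right (hm ▸ Dvd.intro_left _ rfl)
  have k1 : k ∣ 3 ^ 6 := by
    have : k.Coprime 5 := ((Nat.Prime.coprime_iff_not_dvd Nat.prime_five).2 fun e =>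
      cc5 hF (z := z) (by omega) (by omega) (hk ▸ e.mul_left _)).symm
    refine this.dvd_of_dvd_mul_left (Dvd.intro (cl z) ?_)
    rw [hk, mul_assoc] at hm; omega
  have e4 := h.pairs z z
  rw [Fin.sum_univ_four, e0, e3, hr, hs, d1, d2, hF.card, hk, e2] at e4
  have e5 : ((np z z u * 2048 * k ^ 2 : ℤ) : ℂ) = (5 * (5832 - 8 * r ^ 2 + 27 * (r - 1) ^ 2) : ℤ) := by
    push_cast at e4 ⊢
    linear_combination e4 / 32
  have e6 := Int.cast_injective e5
  obtain ⟨c, hc, rfl⟩ := (Nat.dvd_prime_pow Nat.prime_three).1 k1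
  refine m81 r ?_
  rcases h.inv z hz with e | e <;> rw [e] at e6
  · have := congrArg (Int.cast : ℤ → ZMod 81) (show 5832 - 8 * r ^ 2 + 27 * (r - 1) ^ 2 = 0 by push_cast at e6; omega)
    push_cast at this
    simp [this]
  · have := congrArg (Int.cast : ℤ → ZMod 81)
      (show 5832 - 8 * r ^ 2 + 27 * (r - 1) ^ 2 = 2048 * (3 ^ c) ^ 2 by push_cast at e6; linarith)
    push_cast at this
    rw [this]
    interval_cases c <;> decide

theorem k54 (hF : Five u 4 6) (h : BD u χ δ d f g) (d0 : d 0 = -64) (d1 : d 1 = 81) (d2 : d 2 = -54) (d3 : d 3 = 36)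
    (g2 : g 2 = false) : False := by
  classical
  obtain ⟨y, hy, ho⟩ := Ix2.exists_central (G := G) Nat.prime_three (by rw [hF.card]; norm_num)
  obtain ⟨n, hn⟩ := rat hF.ord h 2 (fun j => by fin_cases j <;> simp [d0, d1, d2, d3]) y
  have n0 : n ≠ 0 := fun e => h.nz3 2 g2 y ho (by rw [hn, e, Int.cast_zero])
  have h1 := isIrr_isIntegral_central (χ 2).2 y
  rw [hn, one h, d2] at h1
  obtain ⟨m, hm⟩ := exists_int_of_isIntegral_ratCast (q := (cl y : ℚ) * n / 54) (by push_cast; exact h1)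
  have h2 : (cl y : ℤ) * n = 54 * m := by
    have : ((cl y : ℤ) * n : ℂ) = 54 * m := by push_cast at hm ⊢; linear_combination 54 * hm
    exact_mod_cast this
  have h3 : (3 ^ 3 : ℤ) ∣ n := (IsCoprime.pow_left (m := 3) (Nat.isCoprime_iff_coprime.2
    ((Nat.Prime.coprime_iff_not_dvd Nat.prime_three).2 ho))).dvd_of_dvd_mul_left ⟨2 * m, by rw [h2]; ring⟩
  have h4 : 729 ≤ cc y := by
    have := Finset.single_le_sum (f := fun ψ : IrrCharacter G => ‖(ψ : G → ℂ) y‖ ^ 2) (fun _ _ => by positivity)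
      (Finset.mem_univ (χ 2))
    rw [sum_irr_norm_sq, hn, Complex.norm_intCast, sq_abs] at this
    obtain ⟨k, rfl⟩ := h3
    have h5 : (3 ^ 3 * k) ^ 2 ≤ (cc y : ℤ) := by exact_mod_cast this
    have h6 : 0 < k ^ 2 := by have : k ≠ 0 := fun e => n0 (by simp [e]); positivity
    nlinarith
  have hm := mul y
  rw [hF.card] at hm
  have h5 : cl y ≤ 35 := by nlinarith
  have h6 : ∀ i, ∑ x : centralizer ({y} : Set G), (χ i : G → ℂ) x = 0 := fun i => by
    by_contra e
    have := codeg_degree_le_index_mul (χ i).2 (H := centralizer {y}) isCharacter_one (by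
      simpa [classInner_def, Nat.card_pos.ne'] using e)
    rw [(dg h i).1, charDegree_eq_of_eq (n := 1) (by simp), mul_one] at this
    have := this.trans h5
    fin_cases i <;> simp [d0, d1, d2, d3] at this
  have h7 : ∑ x : centralizer ({y} : Set G), (1 + ∑ i, δ i * (χ i : G → ℂ) x) = 0 :=
    Finset.sum_eq_zero fun x _ => h.rel x fun e =>
      cc5 hF (z := y) (by omega) (by omega) (by rw [← e, orderOf_coe]; exact orderOf_dvd_natCard x)
  rw [Finset.sum_add_distrib, Finset.sum_comm] at h7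
  simp [← Finset.mul_sum, h6] at h7

theorem sf (hF : Five u 4 6) (h : BD u χ δ d f g) (d0 : d 0 = -64) (d1 : d 1 = 81) (d2 : d 2 = 6) (d3 : d 3 = -24) :
    ∃ U W Q R : G → ℤ, F25 u U W Q R := by
  choose X hX using fun i => rat hF.ord h i fun j => by fin_cases i <;> fin_cases j <;> simp [d0, d1, d2, d3]
  have hX' : ∀ i, (χ i : G → ℂ) = fun x => (X i x : ℂ) := fun i => funext (hX i)
  have δ0 : δ 0 = -1 := by have := (dg h 0).2; rw [d0] at this; norm_num at this; omega
  have δ1 : δ 1 = 1 := by have := (dg h 1).2; rw [d1] at this; norm_num at this; omega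
  have δ2 : δ 2 = 1 := by have := (dg h 2).2; rw [d2] at this; norm_num at this; omega
  have δ3 : δ 3 = -1 := by have := (dg h 3).2; rw [d3] at this; norm_num at this; omega
  have iz : ∀ i, IZ (X i) := fun i => by rw [IZ, ← hX']; exact (χ i).2
  have o : ∀ i, X i 1 = (d i).natAbs := fun i =>
    Int.cast_injective (α := ℂ) ((hX i 1).symm.trans ((one h i).trans (Int.cast_natCast _).symm))
  have v : ∀ i x, orderOf x = 5 → X i x = δ i := fun i x e => by exact_mod_cast (hX i x).symm.trans (h.val i x e)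
  have z : ∀ i (p : ℕ), p.Prime → (d i).natAbs.factorization p = (25920 : ℕ).factorization p → ∀ x, p ∣ orderOf x →
      X i x = 0 := fun i p hp e x hx => by
    exact_mod_cast (hX i x).symm.trans (Blk.irr_apply_eq_zero_of_defect_zero hp (by rw [(dg h i).1, e, hF.card]; rfl) hx)
  refine ⟨X 2, X 3, X 0, X 1, hF.card, hF.ord, fun x hx => ?_, ?_, iz 2, iz 3, iz 0, iz 1,
    by simp [o, d0, d1, d2, d3], fun x hx => by simp [v _ x hx, δ0, δ1, δ2, δ3], fun ψ hψ => ?_, fun x hx => ?_,
    z 0 2 Nat.prime_two (by rw [d0]; decide +kernel), z 1 3 Nat.prime_three (by rw [d1]; decide +kernel),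
    fun x y => ?_, h.inv⟩
  · refine (ord5 hF (orderOf_pow_orderOf_div (orderOf_pos x).ne' hx) (Commute.self_pow x _)).resolve_left fun e => ?_
    simp [e] at hx
  · rw [Nat.card_congr (Equiv.subtypeEquivRight fun x => (⟨hF.conj x, fun e => by
      obtain ⟨c, rfl⟩ := isConj_iff.1 e
      exact (MulAut.conj c).orderOf_eq u ▸ hF.ord⟩ : orderOf x = 5 ↔ IsConj u x)), card_isConj_eq_index]
    have := (centralizer ({u} : Set G)).card_mul_index
    rw [hF.card] at this
    rw [hF.cent u hF.ord, Nat.card_zpowers, hF.ord] at *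
    omega
  · refine or_iff_not_imp_left.2 fun e => ?_
    obtain ⟨i, rfl⟩ : ∃ i, ψ = χ i := by
      by_contra! hn
      exact hψ (h.other ψ e hn u hF.ord)
    rw [hX']
    fin_cases i <;> simp
  · have := h.rel x hx
    rw [Fin.sum_univ_four, δ0, δ1, δ2, δ3, hX, hX, hX, hX] at this
    have e : ((1 + X 2 x + X 1 x : ℤ) : ℂ) = (X 3 x + X 0 x : ℤ) := by
      push_cast at this ⊢; linear_combination this
    exact Int.cast_injective e
  · have := h.pairs x y
    simp only [Fin.sum_univ_four, hX, d0, d1, d2, d3, hF.card] at this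
    refine Int.cast_injective (α := ℂ) ?_
    push_cast at this ⊢
    linear_combination this

end KillJ

theorem kill68 : Kill68.{u} := fun _ _ _ _ _ _ _ _ _ σ hF h hN =>
  KillJ.k68 hF (KillJ.perm h σ) (hN.dvd _)

theorem kill54 : Kill54.{u} := fun _ _ _ _ _ _ _ _ _ σ hF h _ => KillJ.k54 hF (KillJ.perm h σ)

theorem stepF : StepF.{u} := fun _ _ _ _ _ _ _ _ _ σ hF h _ => KillJ.sf hF (KillJ.perm h σ)

end CL.T35
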