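/-
Project T35: assembly.
-/
import Cfsg.Agent.T35.Defs
import Cfsg.Agent.S1001
import Cfsg.Agent.S0998
import Cfsg.Agent.S0498
import Cfsg.Agent.S1614
import Cfsg.Agent.S4488
import Cfsg.Agent.Blk.Sieve5
import Cfsg.Agent.Cls.SmallIso
import Cfsg.Agent.Cls.UniSimple

set_option autoImplicit false
set_option linter.unusedSectionVars false

namespace CL.T35

open Cfsg Subgroup CL.Char
open CL.Ix2 (cc cl np L2)

universe u

theorem card_PSU52 {F : Type} [Field F] [Fintype F] (hF : Fintype.card F = 4) :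
    Nat.card (Cfsg.PSU 5 F 2) = 13685760 := by
  have := CL.Uni.card_PSU (F := F) (q := 2) (by rw [hF]; norm_num) (n := 5) (by norm_num)
  have h2 : CL.Uni.guOrder 2 5 = 41057280 := by decide +kernel
  rw [h2] at this
  norm_num at this
  omega

/-- the group of order 25920 -/
theorem goal_of_F25 (hZ : StepZ.{u}) (hT : StepT.{u}) {G : Type u} [Group G] [Fintype G] [IsSimpleGroup G]
    (hG : ¬ IsMulCommutative G) {u : G} {U W Q R : G → ℤ} (h : F25 u U W Q R) :
    ∃ (F : Type) (_ : Field F) (_ : Fintype F), Fintype.card F = 4 ∧ Nonempty (G ≃* Cfsg.PSU 4 F 2) := by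
  obtain ⟨z, hz⟩ := hZ G u U W Q R h
  have hns : ¬ Group.IsSolvable G := fun hs => hG ⟨⟨IsSimpleGroup.comm_iff_isSolvable.2 hs⟩⟩
  have hz1 : z ≠ 1 := by
    rintro rfl
    have := hz.ord
    simp at this
  have hcomm : commutator G = ⊤ := by
    refine (IsSimpleGroup.eq_bot_or_eq_top_of_normal _ inferInstance).resolve_left fun hb => hG ⟨⟨fun a b => ?_⟩⟩
    have := commutator_mem_commutator (mem_top a) (mem_top b)
    change _ ∈ commutator G at this
    rw [hb, mem_bot, commutatorElement_eq_one_iff_mul_comm] at this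
    exact this
  have hD : IsThreeTranspositionClass (conjugatesOf z) := by
    refine ⟨⟨fun d hd => ?_, fun d hd e he => ?_⟩, ⟨z, IsConj.refl z, rfl⟩, ?_⟩
    · obtain ⟨c, rfl⟩ := isConj_iff.1 hd
      rw [← hz.ord]
      simpa using (MulAut.conj c).orderOf_eq z
    · obtain ⟨c, rfl⟩ := isConj_iff.1 he
      have h1 : IsConj z (c⁻¹ * d * c) := (show IsConj z d from hd).trans (isConj_iff.2 ⟨c⁻¹, by simp⟩)
      have e1 : d * (c * z * c⁻¹) = c * (c⁻¹ * d * c * z) * c⁻¹ := by group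
      rw [e1, conj_pow, conj_pow]
      rcases hT G u z U W Q R h hz _ h1 with h2 | h2 <;> simp [h2]
    · have hn : (closure (conjugatesOf z)).Normal := by
        have : conjugatesOf z = Group.conjugatesOfSet {z} := by
          ext x; simp [Group.mem_conjugatesOfSet_iff, conjugatesOf]
        rw [this]
        exact (inferInstance : (normalClosure {z}).Normal)
      refine (IsSimpleGroup.eq_bot_or_eq_top_of_normal _ hn).resolve_left fun hb => hz1 ?_
      have : z ∈ closure (conjugatesOf z) := subset_closure (IsConj.refl z)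
      rwa [hb, mem_bot] at this
  have hcc : cc z = 3 ^ 2 * 2 ^ 6 := by
    have := CL.Ix2.cc_mul_cl z
    rw [hz.cl_eq, h.card] at this
    omega
  have hsol : Group.IsSolvable (centralizer ({z} : Set G)) :=
    isSolvable_of_card_eq_pow_mul_pow Nat.prime_three Nat.prime_two hcc
  have hle : closure {y : G | y ∈ conjugatesOf z ∧ y ≠ z ∧ Commute z y} ≤ centralizer ({z} : Set G) := by
    rw [closure_le]
    rintro y ⟨-, -, hy⟩
    exact mem_centralizer_singleton_iff.2 hy.symm.eq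
  have hs : Group.IsSolvable (closure {y : G | y ∈ conjugatesOf z ∧ y ≠ z ∧ Commute z y}) :=
    solvable_of_solvable_injective (inclusion_injective hle)
  have key := Cfsg.Agent.S1614.result (G := G) (fun N hN hsN => by
    refine (IsSimpleGroup.eq_bot_or_eq_top_of_normal N hN).resolve_right ?_
    rintro rfl
    exact hns (solvable_of_surjective (f := (⊤ : Subgroup G).subtype) fun x => ⟨⟨x, trivial⟩, rfl⟩))
    (by rw [hcomm]; exact hcomm) hD z (IsConj.refl z) hs
  have hc := h.card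
  rcases key with ⟨⟨e⟩⟩ | ⟨⟨e⟩⟩ | ⟨F, _, _, hF, h4 | ⟨⟨e⟩⟩⟩
  · rw [Nat.card_congr e.toEquiv, Nat.card_perm] at hc
    simp [Nat.factorial] at hc
  · rw [Nat.card_congr e.toEquiv, Nat.card_perm] at hc
    simp [Nat.factorial] at hc
  · exact ⟨F, _, _, hF, h4⟩
  · rw [Nat.card_congr e.toEquiv, card_PSU52 hF] at hc
    omega

/-- all the steps -/
structure Steps : Prop where
  tri : StepTri.{u}
  int : StepInt.{u}
  deg : StepDeg
  pr : StepPr.{u}
  sc : StepSC.{u}
  ix : StepIx.{u}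
  big : StepBig.{u}
  s11 : Step11.{u}
  s13A : Step13A.{u}
  s13B : Step13B.{u}
  s13C : Step13C.{u}
  bd : StepBD.{u}
  nb : StepNB.{u}
  num : StepNum
  k68 : Kill68.{u}
  k54 : Kill54.{u}
  f : StepF.{u}
  z : StepZ.{u}
  t : StepT.{u}

variable {G : Type u} [Group G] [Fintype G] [IsSimpleGroup G]

theorem not_cyclic (hG : ¬ IsMulCommutative G) : ¬ IsCyclic G := fun _ => hG inferInstance

theorem L2_card {q d N : ℕ} (h : L2 G q) (hd : Nat.gcd 2 (q - 1) = d) (hd0 : 0 < d)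
    (hN : d * N = q * (q ^ 2 - 1)) : Nat.card G = N := by
  obtain ⟨F, _, _, hF, ⟨e⟩⟩ := h
  rw [Nat.card_congr e.toEquiv]
  exact CL.Cls.card_PSL_two_of_card hF hd hd0 hN

theorem five_case (S : Steps.{u}) (hG : ¬ IsMulCommutative G) {a b : ℕ} (h : Nat.card G = 5 * 3 ^ a * 2 ^ b) :
    L2 G 5 ∨ L2 G 9 ∨
      ∃ (F : Type) (_ : Field F) (_ : Fintype F), Fintype.card F = 4 ∧ Nonempty (G ≃* Cfsg.PSU 4 F 2) := by
  have h5 : Nat.Prime 5 := by norm_num
  have hcent : ∀ x : G, orderOf x = 5 → centralizer ({x} : Set G) = zpowers x := fun x hx =>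
    Cfsg.Agent.S1001.result 5 a b h5 h x hx
  have hpr : ∀ r : ℕ, r.Prime → r ∣ Nat.card G → r = 2 ∨ r = 3 ∨ r = 5 := fun r hr hd => by
    rw [h] at hd
    rcases (Nat.Prime.dvd_mul hr).1 hd with hd | hd
    · rcases (Nat.Prime.dvd_mul hr).1 hd with hd | hd
      · exact Or.inr (Or.inr ((Nat.prime_dvd_prime_iff_eq hr h5).1 hd))
      · exact Or.inr (Or.inl ((Nat.prime_dvd_prime_iff_eq hr Nat.prime_three).1 (hr.dvd_of_dvd_pow hd)))
    · exact Or.inl ((Nat.prime_dvd_prime_iff_eq hr Nat.prime_two).1 (hr.dvd_of_dvd_pow hd))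
  have h25 : ¬ 5 ^ 2 ∣ Nat.card G := by
    rw [h, mul_assoc, pow_two, Nat.mul_dvd_mul_iff_left (by norm_num)]
    intro hd
    rcases (Nat.Prime.dvd_mul h5).1 hd with hd | hd <;> have := h5.dvd_of_dvd_pow hd <;> omega
  obtain ⟨e, P, hP⟩ := S.sc G 5 hG h5 ⟨3 ^ a * 2 ^ b, by rw [h]; ring⟩ h25 hcent
  have he : e = 2 ∨ e = 4 := by
    have h1 := hP.two_le
    have h2 : e ∣ 4 := hP.dvd
    have h3 := Nat.le_of_dvd (by norm_num) h2
    interval_cases e <;> omega
  rcases he with rfl | rfl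
  · rcases S.ix G b a 0 0 5 P hG h5 (by norm_num) (by rw [h]; ring) hP with h1 | h1 | h1 | h1
    · exact Or.inl h1
    · exact Or.inr (Or.inl h1)
    · have := hpr 17 (by norm_num) (by rw [L2_card h1 (d := 1) (N := 4080) rfl one_pos rfl]; norm_num)
      omega
    · exfalso
      have h7 := hpr 7 (by norm_num)
      have h13 := hpr 13 (by norm_num)
      have h41 := hpr 41 (by norm_num)
      simp only [List.mem_cons, List.not_mem_nil, or_false] at h1
      rcases h1 with h1 | h1 | h1 | h1 | h1 | h1 | h1 <;> rw [h1] at h7 h13 h41 <;> omega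
  · haveI := Fact.mk h5
    obtain ⟨u, hu⟩ := exists_prime_orderOf_dvd_card' (G := G) 5 ⟨3 ^ a * 2 ^ b, by rw [h]; ring⟩
    have hF : Five u a b := ⟨h, hu, hcent, fun x hx => hP.conj rfl u x hu hx⟩
    obtain ⟨χ, δ, d, f, g, hB⟩ := S.bd G u a b hG hF
    have hN := S.nb G u a b χ δ d f g hG hF hB
    rcases S.num a b d f g hN with h1 | ⟨σ, h1 | h1 | h1⟩
    · exfalso
      have h2 := CL.Blk.Sieve.card_mem_of_lt hG (h ▸ h1)
      obtain ⟨n, hn, hn1⟩ := hP.count
      have h7 := hpr 7 (by norm_num)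
      have h11 := hpr 11 (by norm_num)
      have h13 := hpr 13 (by norm_num)
      have h17 := hpr 17 (by norm_num)
      have h19 := hpr 19 (by norm_num)
      simp only [List.mem_cons, List.not_mem_nil, or_false] at h2
      rcases h2 with h2 | h2 | h2 | h2 | h2 | h2 | h2 | h2 | h2 | h2 | h2 | h2 | h2 <;>
        rw [h2] at hn h7 h11 h13 h17 h19 <;> omega
    · obtain ⟨rfl, rfl, e0, e1, e2, e3⟩ := h1
      obtain ⟨U, W, Q, R, hF25⟩ := S.f G u χ δ d f g σ hF hB hN e0 e1 e2 e3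
      exact Or.inr (Or.inr (goal_of_F25 S.z S.t hG hF25))
    · obtain ⟨rfl, rfl, e0, e1, e2, e3, e4⟩ := h1
      exact (S.k54 G u χ δ d f g σ hF hB hN e0 e1 e2 e3 e4).elim
    · obtain ⟨rfl, rfl, e0, e1, e2, e3, e4, e5, e6⟩ := h1
      exact (S.k68 G u χ δ d f g σ hF hB hN e0 e1 e2 e3 e4 e5 e6).elim

theorem goal_of_five (S : Steps.{u}) (hG : ¬ IsMulCommutative G) {a b : ℕ}
    (h : Nat.card G = 5 * 3 ^ a * 2 ^ b) : Goal G := by
  rcases five_case S hG h with h | h | h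
  · exact Or.inl h
  · exact Or.inr (Or.inl h)
  · exact Or.inr (Or.inr (Or.inr (Or.inr (Or.inr h))))

theorem IZ.exists_nat {X : G → ℤ} (h : IZ X) : ∃ n : ℕ, X 1 = n ∧ n ∣ Nat.card G := by
  refine ⟨charDegree fun g => (X g : ℂ), ?_, h.charDegree_dvd_card⟩
  have := h.cast_charDegree
  exact_mod_cast this.symm

theorem IZ.faithful {X : G → ℤ} (h : IZ X) (h1 : 1 < X 1) (g : G) (hg : (X g : ℂ) = X 1) : g = 1 := by
  have hk := h.charKer_eq_bot_of_simple fun e => by
    have : X 1 = 1 := by exact_mod_cast congrFun e 1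
    omega
  rw [← mem_bot, ← hk]
  exact h.isCharacter.mem_charKer.2 hg

theorem IZ.factorization_le {X : G → ℤ} (h : IZ X) {n p : ℕ} (hn : X 1 = n) (h1 : 1 < n) (hp : p.Prime) :
    (Nat.card G).factorization p ≤ ∑ i ∈ Finset.range (n + 1), n / ((p - 1) * p ^ i) := by
  refine Cfsg.Agent.S4488.result p hp (fun g => (X g : ℂ)) h.isCharacter
    (fun g hg => h.faithful (by omega) g hg) ⟨1, one_pos, hp.one_lt.ne' ∘ Nat.dvd_one.1, fun g => ?_⟩ n ?_
  · exact IntermediateField.intCast_mem _ _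
  · simp [charDegree, hn]

theorem case4 {Y : G → ℤ} (hY : IZ Y) (hn : Y 1 = (4 : ℕ)) {a b q : ℕ} (hq : q.Prime) (hq5 : 5 ≤ q)
    (h : Nat.card G = 2 ^ a * 3 * 5 * q ^ b) : b = 0 := by
  by_contra hb
  obtain ⟨b, rfl⟩ := Nat.exists_eq_succ_of_ne_zero hb
  have h1 := hY.factorization_le hn (by norm_num) hq
  by_cases h5 : q = 5
  · subst h5
    have h6 : 2 ≤ (Nat.card G).factorization 5 :=
      (hq.pow_dvd_iff_le_factorization Nat.card_pos.ne').1 ⟨2 ^ a * 3 * 5 ^ b, by rw [h, pow_succ]; ring⟩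
    have h7 : ∑ i ∈ Finset.range (4 + 1), 4 / ((5 - 1) * 5 ^ i) = 1 := by decide
    omega
  · have h6 : 1 ≤ (Nat.card G).factorization q :=
      (hq.pow_dvd_iff_le_factorization Nat.card_pos.ne').1 ⟨2 ^ a * 3 * 5 * q ^ b, by rw [h, pow_succ]; ring⟩
    rw [Finset.sum_eq_zero fun i _ => Nat.div_eq_of_lt (by
      have := Nat.mul_le_mul (show 5 ≤ q - 1 by omega) (Nat.one_le_pow i q hq.pos); omega)] at h1
    omega

theorem case7 (S : Steps.{u}) (hG : ¬ IsMulCommutative G) {a e : ℕ} {P : Sylow 7 G} (hP : SC 7 e P)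
    (h : Nat.card G = 2 ^ a * 3 * 5 * 7 ^ 1) : Goal G := by
  have hq : Nat.Prime 7 := by norm_num
  obtain ⟨k, hk, hk1⟩ := hP.count
  have he : e = 2 := by
    have h1 := hP.two_le
    have h4 : e ∣ 6 := hP.dvd
    have h5 := Nat.le_of_dvd (by norm_num) h4
    have h6 : 2 ^ a % 7 = 1 ∨ 2 ^ a % 7 = 2 ∨ 2 ^ a % 7 = 4 := by
      clear * -
      induction a with
      | zero => simp
      | succ a ih => rw [pow_succ]; omega
    rw [h] at hk
    clear h hP
    generalize 2 ^ a = w at *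
    interval_cases e <;> omega
  subst he
  rcases S.ix G a 1 1 0 7 P hG hq (by norm_num) (by rw [h]; ring) hP with h1 | h1 | h1 | h1
  · exact Or.inl h1
  · exact Or.inr (Or.inl h1)
  · exact Or.inr (Or.inr (Or.inr (Or.inl h1)))
  · exfalso
    have h9 : ¬ 9 ∣ Nat.card G := by
      rw [h, show 2 ^ a * 3 * 5 * 7 ^ 1 = 3 * (35 * 2 ^ a) by ring, show 9 = 3 * 3 from rfl,
        Nat.mul_dvd_mul_iff_left (by norm_num)]
      intro hd
      rcases (Nat.Prime.dvd_mul Nat.prime_three).1 hd with hd | hd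
      · omega
      · have := Nat.prime_three.dvd_of_dvd_pow hd; omega
    have h105 : 105 ∣ Nat.card G := ⟨2 ^ a, by rw [h]; ring⟩
    have h49 : ¬ 49 ∣ Nat.card G := by
      rw [h, show 2 ^ a * 3 * 5 * 7 ^ 1 = 7 * (15 * 2 ^ a) by ring, show 49 = 7 * 7 from rfl,
        Nat.mul_dvd_mul_iff_left (by norm_num)]
      intro hd
      rcases (Nat.Prime.dvd_mul hq).1 hd with hd | hd
      · omega
      · have := hq.dvd_of_dvd_pow hd; omega
    simp only [List.mem_cons, List.not_mem_nil, or_false] at h1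
    rcases h1 with h1 | h1 | h1 | h1 | h1 | h1 | h1 <;> rw [h1] at h9 h105 h49 <;> omega

theorem case11 (S : Steps.{u}) (hG : ¬ IsMulCommutative G) {a e : ℕ} {P : Sylow 11 G} (hP : SC 11 e P)
    (h : Nat.card G = 2 ^ a * 3 * 5 * 11 ^ 1) (ha : a ≤ 11) : Goal G := by
  have hq : Nat.Prime 11 := by norm_num
  obtain ⟨k, hk, hk1⟩ := hP.count
  have h1 := hP.two_le
  have h4 : e ∣ 10 := hP.dvd
  have h5 := Nat.le_of_dvd (by norm_num) h4
  have h6 : a = 2 ∨ a = 3 ∨ a = 9 ∧ e = 2 := by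
    rw [h] at hk
    clear h hP
    have he : e = 2 ∨ e = 5 ∨ e = 10 := by interval_cases e <;> omega
    rcases he with rfl | rfl | rfl <;> interval_cases a <;> omega
  rcases h6 with rfl | rfl | ⟨rfl, rfl⟩
  · haveI := Fact.mk hq
    exact Or.inr (Or.inr (Or.inl ⟨ZMod 11, inferInstance, inferInstance, ZMod.card 11,
      Cfsg.Agent.S0498.result 11 (Or.inl rfl) (by rw [h]; norm_num) (ZMod.card 11)⟩))
  · have := CL.Blk.Sieve.card_mem_of_lt hG (by rw [h]; norm_num)
    rw [h] at this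
    simp at this
  · rcases S.ix G 9 1 1 0 11 P hG hq (by norm_num) (by rw [h]; ring) hP with h1 | h1 | h1 | h1
    · exact Or.inl h1
    · exact Or.inr (Or.inl h1)
    · exact Or.inr (Or.inr (Or.inr (Or.inl h1)))
    · rw [h] at h1
      simp at h1

theorem casePr (S : Steps.{u}) (hG : ¬ IsMulCommutative G) {X : G → ℤ} (hX : IZ X) {a b q : ℕ} (hq : q.Prime)
    (h7 : 7 ≤ q) (h1 : X 1 = q) (h : Nat.card G = 2 ^ a * 3 * 5 * q ^ b) :
    b = 1 ∧ ∃ (e : ℕ) (P : Sylow q G), SC q e P := by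
  have h2 := S.pr G X q hG hq (by omega) hX h1
  obtain ⟨n, hn, h4⟩ := hX.exists_nat
  obtain rfl : q = n := by omega
  refine ⟨?_, S.sc G q hG hq h4 h2.1 h2.2⟩
  rcases b with _ | _ | b
  · exfalso
    rw [h, pow_zero, mul_one] at h4
    rcases (Nat.Prime.dvd_mul hq).1 h4 with h4 | h4
    · rcases (Nat.Prime.dvd_mul hq).1 h4 with h4 | h4
      · have := Nat.le_of_dvd two_pos (hq.dvd_of_dvd_pow h4); omega
      · have := Nat.le_of_dvd (by norm_num) h4; omega
    · have := Nat.le_of_dvd (by norm_num) h4; omega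
  · rfl
  · exact (h2.1 ⟨2 ^ a * 3 * 5 * q ^ b, by rw [h]; ring⟩).elim

theorem main (S : Steps.{u}) (a b q : ℕ) (hq : q.Prime) (h : Nat.card G = 2 ^ a * 3 * 5 * q ^ b) : Goal G := by
  have hG : ¬ IsMulCommutative G := fun hc => by
    letI : CommGroup G := { (inferInstance : Group G) with mul_comm := hc.is_comm.comm }
    have hp : (Nat.card G).Prime := IsSimpleGroup.prime_card
    have h3 := (Nat.prime_dvd_prime_iff_eq Nat.prime_three hp).1 ⟨2 ^ a * 5 * q ^ b, by rw [h]; ring⟩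
    have h5 : 5 ∣ Nat.card G := ⟨2 ^ a * 3 * q ^ b, by rw [h]; ring⟩
    omega
  by_cases h2 : q = 2
  · subst h2
    exact goal_of_five S hG (a := 1) (b := a + b) (by rw [h]; ring)
  by_cases h3 : q = 3
  · subst h3
    exact goal_of_five S hG (a := b + 1) (b := a) (by rw [h]; ring)
  have hq5 : 5 ≤ q := hq.five_le_of_ne_two_of_ne_three h2 h3
  have h3m : ¬ 3 ∣ 2 ^ a * 5 * q ^ b := fun hd => by
    rcases (Nat.Prime.dvd_mul Nat.prime_three).1 hd with hd | hd
    · rcases (Nat.Prime.dvd_mul Nat.prime_three).1 hd with hd | hd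
      · have := Nat.prime_three.dvd_of_dvd_pow hd; omega
      · omega
    · exact h3 ((Nat.prime_dvd_prime_iff_eq Nat.prime_three hq).1 (Nat.prime_three.dvd_of_dvd_pow hd)).symm
  have hc : Nat.card G = 3 * (2 ^ a * 5 * q ^ b) := by rw [h]; ring
  obtain ⟨X, Y, hT⟩ := S.tri G hG ⟨_, hc⟩ (by rw [hc]; omega)
  have hI := S.int G X Y hT
  obtain ⟨n, hn, hnd⟩ := hT.hY.exists_nat
  obtain ⟨m, hm, hmd⟩ := hT.hX.exists_nat
  have hXY := hT.reg 1 (by simp)
  obtain rfl : m = n + 1 := by omega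
  have hn1 : 1 < n := by have := hT.one_lt; omega
  have hn3 : n % 3 = 1 := by
    haveI := Fact.mk Nat.prime_three
    obtain ⟨x, hx⟩ := exists_prime_orderOf_dvd_card' (G := G) 3 ⟨_, hc⟩
    have := isGenChar_intModEq_one hT.hY.isGeneralizedCharacter Nat.prime_three (g := x) (k := 1)
      (by rw [pow_one, ← hx, pow_orderOf_eq_one]) (a := 1) (b := n)
      (by simp [(hT.sing x (hx ▸ dvd_rfl)).2]) (by simp [hn])
    unfold Int.ModEq at this
    omega
  have hd1 : n ∣ 2 ^ a * 5 * q ^ b := by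
    rw [hc] at hnd
    exact (Nat.Coprime.symm ((Nat.Prime.coprime_iff_not_dvd Nat.prime_three).2 (by omega))).dvd_of_dvd_mul_left hnd
  have hd2 : n + 1 ∣ 2 ^ a * 5 * q ^ b := by
    rw [hc] at hmd
    exact (Nat.Coprime.symm ((Nat.Prime.coprime_iff_not_dvd Nat.prime_three).2 (by omega))).dvd_of_dvd_mul_left hmd
  rcases S.deg a b q n hq hq5 hn1 hn3 hd1 hd2 with rfl | ⟨h16, hnq⟩ | ⟨rfl, rfl⟩ | ⟨rfl, rfl⟩ | ⟨rfl, rfl⟩
  · obtain rfl := case4 hT.hY hn hq hq5 h
    exact goal_of_five S hG (a := 1) (b := a) (by rw [h]; ring)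
  · have hb : b = 1 := by
      rcases hnq with e | e
      · exact (casePr S hG hT.hY hq (by omega) (by rw [hn, e]) h).1
      · exact (casePr S hG hT.hX hq (by omega) (by rw [hm, e]) h).1
    subst hb
    rcases S.big G a q hG hq h16 (by rw [h, pow_one]) with h1 | h1
    · exact Or.inr (Or.inr (Or.inr (Or.inl h1)))
    · exact Or.inr (Or.inr (Or.inr (Or.inr (Or.inl h1))))
  · obtain ⟨rfl, e, P, hP⟩ := casePr S hG hT.hY hq le_rfl hn h
    exact case7 S hG hP h
  · obtain ⟨rfl, e, P, hP⟩ := casePr S hG hT.hX hq (by norm_num) hm h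
    exact case11 S hG hP h (S.s11 G X Y a hG hT hI hn (by rw [h, pow_one]))
  · exfalso
    rcases b with _ | _ | b
    · have h13 : 13 ∣ 2 ^ a * 5 * 13 ^ 0 := (show 13 ∣ 64 + 1 by norm_num).trans hd2
      rw [pow_zero, mul_one] at h13
      rcases (Nat.Prime.dvd_mul hq).1 h13 with hd | hd
      · have := hq.dvd_of_dvd_pow hd; omega
      · omega
    · exact S.s13C G X Y a hG hT hn (by rw [h]; ring)
    · exact S.s13B G X hT.hX.isCharacter hm (S.s13A G X Y a _ hG hT hI hn h (by omega))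
        ⟨2 ^ a * 3 * 5 * 13 ^ b, by rw [h]; ring⟩

end CL.T35
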