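/-
Project T35: the numerical shadow of the five characters not vanishing at an element of order 5.
-/
import Cfsg.Agent.T35.Defs
import Cfsg.Agent.Char.Linear

set_option autoImplicit false
set_option linter.unusedSectionVars false

namespace CL.T35

open Cfsg Subgroup CL.Char
open CL.Ix2 (cc cl np L2)
open scoped ComplexConjugate

universe u

variable {G : Type u} [Group G] [Fintype G]

theorem nb_syl {p k : ℕ} [hp : Fact p.Prime] (hk : p ^ k ∣ Nat.card G) {D : G → ℂ}
    (hD : IsGeneralizedCharacter G D) (h0 : ∀ x : G, p ∣ orderOf x → D x = 0) {m : ℤ} (hm : D 1 = m) :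
    ∃ x : ℤ, m = p ^ k * x := by
  classical
  obtain ⟨P, hP⟩ := Sylow.exists_subgroup_card_pow_prime p hk
  obtain ⟨x, hx⟩ := (hD.restrict P).exists_int_classInner isCharacter_one.isGeneralizedCharacter
  rw [classInner_one_right, Finset.sum_eq_single 1, hP] at hx
  · refine ⟨x, ?_⟩
    have h1 : ((p : ℂ) ^ k) ≠ 0 := pow_ne_zero _ (by exact_mod_cast hp.out.ne_zero)
    have h2 : (m : ℂ) = (p : ℂ) ^ k * x := by
      rw [← hx, ← hm]; push_cast; field_simp
    exact_mod_cast h2
  · intro y _ hy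
    obtain ⟨j, -, hj⟩ := (Nat.dvd_prime_pow hp.out).mp (hP ▸ orderOf_dvd_natCard y)
    refine h0 _ ?_
    rw [Subgroup.orderOf_coe, hj]
    refine dvd_pow_self p fun h => hy ?_
    rwa [h, pow_zero, orderOf_eq_one_iff] at hj
  · simp

theorem nb_central {p : ℕ} [hp : Fact p.Prime] (h : p ∣ Nat.card G) : ∃ z : G, z ≠ 1 ∧ ¬ p ∣ cl z := by
  obtain ⟨P⟩ : Nonempty (Sylow p G) := inferInstance
  have : Nontrivial (P : Subgroup G) := (P : Subgroup G).nontrivial_iff_ne_bot.mpr (P.ne_bot_of_dvd_card h)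
  have := P.isPGroup'.center_nontrivial
  obtain ⟨z, hz⟩ := exists_ne (1 : center (P : Subgroup G))
  refine ⟨z.1, fun h1 => hz (Subtype.ext (Subtype.ext h1)), fun h1 => P.not_dvd_index
    (h1.trans (index_dvd_of_le fun y hy => mem_centralizer_singleton_iff.mpr ?_))⟩
  exact congrArg Subtype.val (mem_center_iff.mp z.2 ⟨y, hy⟩)

theorem nb_tri {u : G} {a b : ℕ} (F : Five u a b) {y : G} (h1 : y ≠ 1) (h5 : orderOf y ≠ 5) :
    2 ∣ orderOf y ∨ 3 ∣ orderOf y := by
  obtain ⟨q, hq, hd⟩ := Nat.exists_prime_and_dvd (mt orderOf_eq_one_iff.mp h1)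
  have h2 := hd.trans (orderOf_dvd_natCard y)
  rw [F.card] at h2
  rcases (hq.dvd_mul).mp h2 with h3 | h3
  · rcases (hq.dvd_mul).mp h3 with h4 | h4
    · obtain rfl := (Nat.prime_dvd_prime_iff_eq hq (by norm_num)).mp h4
      have h6 := F.cent _ (orderOf_pow_orderOf_div (orderOf_pos y).ne' hd)
      have h7 : y ∈ zpowers (y ^ (orderOf y / 5)) :=
        h6 ▸ mem_centralizer_singleton_iff.mpr (Commute.self_pow y _).eq
      have h8 := orderOf_dvd_of_mem_zpowers h7
      rw [orderOf_pow_orderOf_div (orderOf_pos y).ne' hd] at h8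
      exact absurd (Nat.dvd_antisymm h8 hd) h5
    · obtain rfl := (Nat.prime_dvd_prime_iff_eq hq (by norm_num)).mp (hq.dvd_of_dvd_pow h4)
      exact Or.inr hd
  · obtain rfl := (Nat.prime_dvd_prime_iff_eq hq (by norm_num)).mp (hq.dvd_of_dvd_pow h3)
    exact Or.inl hd

theorem nb_card5 {u : G} {a b : ℕ} (F : Five u a b) :
    (Finset.univ.filter fun x : G => orderOf x = 5).card = 3 ^ a * 2 ^ b := by
  have h1 := card_isConj_eq_index u
  have h2 := (centralizer ({u} : Set G)).card_mul_index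
  rw [← h1, F.cent u F.ord, Nat.card_zpowers, F.ord, F.card, mul_assoc] at h2
  rw [← Nat.eq_of_mul_eq_mul_left (by norm_num) h2, ← Fintype.card_subtype, ← Nat.card_eq_fintype_card]
  refine Nat.card_congr (Equiv.subtypeEquivRight fun x => ⟨F.conj x, fun h => ?_⟩)
  obtain ⟨c, rfl⟩ := isConj_iff.mp h
  rw [← F.ord]
  exact (MulAut.conj c).orderOf_eq u

variable {u : G} {χ : Fin 4 → IrrCharacter G} {δ d : Fin 4 → ℤ} {f g : Fin 4 → Bool}

/-- signed partial sums -/
noncomputable def nbD (χ : Fin 4 → IrrCharacter G) (δ : Fin 4 → ℤ) (S : Finset (Fin 4)) : G → ℂ :=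
  ∑ i ∈ S, (δ i : ℂ) • (χ i : G → ℂ)

theorem nbD_apply (S : Finset (Fin 4)) (x : G) : nbD χ δ S x = ∑ i ∈ S, δ i * (χ i : G → ℂ) x := by
  simp [nbD, Finset.sum_apply]

theorem nbD_gen (S : Finset (Fin 4)) : IsGeneralizedCharacter G (nbD χ δ S) :=
  isGeneralizedCharacter_sum _ _ fun i _ => (χ i).2.isGeneralizedCharacter.intCast_smul _

namespace BD
variable (H : BD u χ δ d f g)
include H

theorem nb_sq (i : Fin 4) : (δ i : ℂ) * δ i = 1 := by
  rcases H.sign i with h | h <;> simp [h]

theorem nb_d (i : Fin 4) : d i = δ i * charDegree (χ i : G → ℂ) := by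
  have := H.deg i
  rw [← (χ i).2.cast_charDegree] at this
  exact_mod_cast this

theorem nb_abs (i : Fin 4) : |d i| = charDegree (χ i : G → ℂ) := by
  rw [H.nb_d i]
  rcases H.sign i with h | h <;> simp [h]

theorem nb_one (S : Finset (Fin 4)) : nbD χ δ S 1 = (∑ i ∈ S, d i : ℤ) := by
  rw [nbD_apply]; push_cast
  exact Finset.sum_congr rfl fun i _ => (H.deg i).symm

theorem nb_five (S : Finset (Fin 4)) {x : G} (hx : orderOf x = 5) : nbD χ δ S x = S.card := by
  rw [nbD_apply, Finset.sum_congr rfl fun i _ => by rw [H.val i x hx, H.nb_sq i]]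
  simp

theorem nb_inner (S T : Finset (Fin 4)) : classInner (nbD χ δ S) (nbD χ δ T) = (S ∩ T).card := by
  classical
  simp only [nbD, classInner_sum_left, classInner_sum_right, classInner_smul_left, classInner_smul_right,
    classInner_irr, H.inj.eq_iff, map_intCast, mul_ite, mul_one, mul_zero, Finset.sum_ite_eq']
  rw [← Finset.sum_filter, Finset.sum_congr rfl fun i _ => H.nb_sq i, Finset.filter_mem_eq_inter,
    Finset.inter_comm]
  simp

theorem nb_gap (h1 : ∀ i, 1 < charDegree (χ i : G → ℂ)) (i : Fin 4) (S : Finset (Fin 4))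
    (hS : 1 + ∑ k ∈ S, d k ≠ 0) : ∃ j, j ∉ S ∧ (|d j| ≤ d i ^ 2 ∨ ∃ k ∈ S, |d j| ≤ d i ^ 2 * |d k|) := by
  by_contra hn
  push Not at hn
  set X : G → ℂ := (χ i : G → ℂ) with hX
  have hXc : IsCharacter G X := (χ i).2.isCharacter
  have hXb := hXc.conj
  set n := charDegree X with hnX
  have hn1 : 1 < n := h1 i
  have hdi : d i ^ 2 = (n : ℤ) ^ 2 := by rw [← sq_abs, H.nb_abs]
  let θ : G → ℂ := fun x => (Complex.normSq (X x - δ i) : ℂ)
  have key : ∀ s : G → ℂ, IsCharacter G s → ∀ j, n ^ 2 * charDegree s < charDegree (χ j : G → ℂ) →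
      classInner (θ * s) (χ j) = 0 := by
    intro s hs j hj
    have h0 : ∀ φ : G → ℂ, IsCharacter G φ → charDegree φ ≤ n ^ 2 → classInner (φ * s) (χ j) = 0 := by
      intro φ hφ hle
      by_contra hc
      have h2 := (hφ.mul hs).charDegree_le_of_classInner_ne_zero (χ j).2 hc
      have h3 : charDegree (φ * s) = charDegree φ * charDegree s := charDegree_eq_of_eq (by
        rw [Pi.mul_apply, ← hφ.cast_charDegree, ← hs.cast_charDegree, Nat.cast_mul])
      have h4 := Nat.mul_le_mul_right (charDegree s) hle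
      omega
    have e1 : X 1 = n := hXc.cast_charDegree.symm
    have e2 : charDegree (fun x => conj (X x)) = n := charDegree_eq_of_eq (by rw [e1, map_natCast])
    have e : θ * s = (X * fun x => conj (X x)) * s - (δ i : ℂ) • (X * s) -
        (δ i : ℂ) • ((fun x => conj (X x)) * s) + (fun _ => 1) * s := by
      funext x
      simp only [θ, Pi.mul_apply, Pi.add_apply, Pi.sub_apply, Pi.smul_apply, smul_eq_mul,
        Complex.normSq_eq_conj_mul_self, map_sub, map_intCast]
      linear_combination s x * H.nb_sq i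
    rw [e, classInner_add_left, classInner_sub_left, classInner_sub_left, classInner_smul_left,
      classInner_smul_left, h0 _ (hXc.mul hXb) (le_of_eq (charDegree_eq_of_eq (by
        rw [Pi.mul_apply, e1, map_natCast]; push_cast; ring))), h0 _ hXc (by nlinarith),
      h0 _ hXb (by rw [e2]; nlinarith), h0 _ isCharacter_one (by
        rw [charDegree_eq_of_eq (n := 1) (by simp)]; nlinarith)]
    simp
  have h2 : classInner (θ * ((fun _ => 1) + nbD χ δ S)) (nbD χ δ Sᶜ) = 0 := by
    conv_lhs => rw [nbD, nbD, classInner_sum_right]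
    refine Finset.sum_eq_zero fun j hj => ?_
    obtain ⟨h3, h4⟩ := hn j (Finset.mem_compl.mp hj)
    rw [classInner_smul_right, mul_add, Finset.mul_sum, classInner_add_left, classInner_sum_left,
      key _ isCharacter_one j (by
        rw [charDegree_eq_of_eq (n := 1) (by simp), mul_one]
        rw [hdi, H.nb_abs] at h3
        exact_mod_cast h3), Finset.sum_eq_zero fun k hk => ?_]
    · simp
    · rw [mul_smul_comm, classInner_smul_left, key _ (χ k).2.isCharacter j (by
        have h5 := h4 k hk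
        rw [hdi, H.nb_abs, H.nb_abs] at h5
        exact_mod_cast h5), mul_zero]
  rw [classInner_def, mul_eq_zero, inv_eq_zero, or_iff_right natCard_ne_zero] at h2
  have h3 : ∀ x : G, (θ * ((fun _ => 1) + nbD χ δ S) : G → ℂ) x * conj (nbD χ δ Sᶜ x) =
      -((Complex.normSq (X x - δ i) * Complex.normSq (1 + nbD χ δ S x) : ℝ) : ℂ) := by
    intro x
    by_cases hx : orderOf x = 5
    · simp [θ, hX, H.val i x hx]
    · have h4 : nbD χ δ Sᶜ x = -(1 + nbD χ δ S x) := by
        have h5 := H.rel x hx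
        rw [← Finset.sum_add_sum_compl S, ← nbD_apply, ← nbD_apply] at h5
        linear_combination h5
      rw [h4, map_neg, Complex.ofReal_mul, ← Complex.mul_conj (1 + nbD χ δ S x)]
      simp only [θ, Pi.mul_apply, Pi.add_apply]
      ring
  rw [Finset.sum_congr rfl fun x _ => h3 x, Finset.sum_neg_distrib, neg_eq_zero, ← Complex.ofReal_sum,
    Complex.ofReal_eq_zero, Finset.sum_eq_zero_iff_of_nonneg
      fun x _ => mul_nonneg (Complex.normSq_nonneg _) (Complex.normSq_nonneg _)] at h2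
  have h4 := h2 1 (Finset.mem_univ _)
  rw [mul_eq_zero, Complex.normSq_eq_zero, Complex.normSq_eq_zero, H.nb_one, ← hXc.cast_charDegree] at h4
  rcases h4 with h4 | h4
  · have h5 : (n : ℤ) - δ i = 0 := by exact_mod_cast h4
    rcases H.sign i with h | h <;> omega
  · exact hS (by exact_mod_cast h4)

theorem nb_prod {a b : ℕ} (F : Five u a b) :
    ∃ x y : ℤ, ∑ i with f i = true, d i = 2 ^ b * x ∧ ∑ i with g i = true, d i = 3 ^ a * y ∧
    x * y + (Finset.univ.filter fun i => f i = true).card * (Finset.univ.filter fun i => g i = true).card =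
      5 * (Finset.univ.filter fun i => f i = true ∧ g i = true).card := by
  classical
  have : Fact (Nat.Prime 3) := ⟨by norm_num⟩
  set S := Finset.univ.filter fun i => f i = true with hS
  set T := Finset.univ.filter fun i => g i = true with hT
  have v2 : ∀ x : G, 2 ∣ orderOf x → nbD χ δ S x = 0 := fun x hx => by rw [nbD_apply]; exact H.v2 x hx
  have v3 : ∀ x : G, 3 ∣ orderOf x → nbD χ δ T x = 0 := fun x hx => by rw [nbD_apply]; exact H.v3 x hx
  obtain ⟨x, hx⟩ := nb_syl (p := 2) (k := b) (F.card ▸ dvd_mul_left _ _) (nbD_gen S) v2 (H.nb_one S)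
  obtain ⟨y, hy⟩ := nb_syl (p := 3) (k := a) (F.card ▸ (dvd_mul_left _ _).mul_right _) (nbD_gen T) v3 (H.nb_one T)
  refine ⟨x, y, by exact_mod_cast hx, by exact_mod_cast hy, ?_⟩
  have h1 := H.nb_inner S T
  have h2 : ∀ z : G, nbD χ δ S z * conj (nbD χ δ T z) =
      (if z = 1 then (2 ^ b * x * (3 ^ a * y) : ℂ) else 0) + if orderOf z = 5 then (S.card * T.card : ℂ) else 0 := by
    intro z
    by_cases h3 : z = 1
    · subst h3
      rw [H.nb_one, H.nb_one, map_intCast, hx, hy]
      simp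
    by_cases h5 : orderOf z = 5
    · rw [H.nb_five S h5, H.nb_five T h5]
      simp [h3, h5]
    rcases nb_tri F h3 h5 with h6 | h6
    · simp [h3, h5, v2 z h6]
    · simp [h3, h5, v3 z h6]
  rw [classInner_def, Finset.sum_congr rfl fun z _ => h2 z, Finset.sum_add_distrib, Finset.sum_ite_eq',
    ← Finset.sum_filter, Finset.sum_const, nb_card5 F, F.card, inv_mul_eq_iff_eq_mul₀ (Nat.cast_ne_zero.mpr (by positivity))] at h1
  rw [Finset.filter_and]
  have h3 : (3 ^ a * 2 ^ b : ℂ) * (x * y + S.card * T.card) = (3 ^ a * 2 ^ b : ℂ) * (5 * (S ∩ T).card) := by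
    simp only [Finset.mem_univ, if_true, nsmul_eq_mul] at h1
    push_cast at h1
    linear_combination h1
  exact_mod_cast mul_left_cancel₀ (by simp) h3

end BD

theorem stepNB : StepNB.{u} := by
  intro G _ _ _ u a b χ δ d f g hG F H
  have hperf : commutator G = ⊤ := (IsSimpleGroup.eq_bot_or_eq_top_of_normal _ inferInstance).resolve_left
    fun h => hG ((commutator_eq_bot_iff G).mp h)
  have h1 : ∀ i, 1 < charDegree (χ i : G → ℂ) := fun i => by
    refine lt_of_le_of_ne (χ i).2.charDegree_pos fun h => H.ne_one i ?_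
    have h2 := (χ i).2.one_eq_one_iff.1 ((χ i).2.isCharacter.charDegree_eq_one_iff.1 h.symm)
    rwa [hperf, top_le_iff, (χ i).2.charKer_eq_top_iff] at h2
  have h5 : ∀ i, d i % 5 = 1 := fun i => by
    have h2 := isGenChar_intModEq_one ((χ i).2.isGeneralizedCharacter.intCast_smul (δ i)) (p := 5) (by norm_num)
      (g := u) (k := 1) (by rw [pow_one, ← F.ord, pow_orderOf_eq_one]) (a := 1) (b := d i)
      (by rw [Pi.smul_apply, H.val i u F.ord, smul_eq_mul, H.nb_sq]; simp) (H.deg i).symm
    exact h2.symm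
  have hn : ∀ i, (d i).natAbs = charDegree (χ i : G → ℂ) := fun i => by
    have := H.nb_abs i
    rw [← Int.natCast_natAbs] at this
    exact_mod_cast this
  have hd : ∀ i, (d i).natAbs ∣ 3 ^ a * 2 ^ b := fun i => by
    have h2 := isIrr_degree_dvd_card (χ i).2 (χ i).2.cast_charDegree.symm
    rw [F.card, mul_assoc, ← hn] at h2
    refine Nat.Coprime.dvd_of_dvd_mul_left ((Nat.Prime.coprime_iff_not_dvd (by norm_num)).mpr ?_).symm h2
    have := h5 i; omega
  have hpw : ∀ (p k : ℕ) [Fact p.Prime] (i : Fin 4), p ^ k ∣ Nat.card G → (d i).natAbs ∣ p ^ k →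
      ∃ z : G, ¬ p ∣ cl z ∧ (χ i : G → ℂ) z = 0 := by
    intro p k hp i h2 h3
    obtain ⟨j, hj, e⟩ := (Nat.dvd_prime_pow hp.out).mp h3
    have hj0 : j ≠ 0 := fun h => by have := h1 i; rw [← hn, e, h] at this; simp at this
    obtain ⟨z, hz, hz'⟩ := nb_central (G := G) (p := p) ((dvd_pow_self p (by omega)).trans h2)
    exact ⟨z, hz', H.cop i z hz (e ▸ (((Nat.Prime.coprime_iff_not_dvd hp.out).mpr hz').symm.pow_right j))⟩
  refine ⟨h5, fun i h => by have := hn i; have := h1 i; omega, fun i => ?_, ?_, ?_, fun i h => ?_, fun i h => ?_,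
    H.nb_prod F, H.nb_gap h1⟩
  · exact_mod_cast Int.natAbs_dvd.mp (Int.natCast_dvd_natCast.mpr (hd i))
  · have h2 := H.rel 1 (by simp)
    rw [← nbD_apply, H.nb_one] at h2
    exact_mod_cast h2
  · classical
    have h2 := sum_charDegree_sq (G := G)
    have h3 : irrOne G ∉ Finset.univ.image χ := fun h => by
      obtain ⟨i, -, hi⟩ := Finset.mem_image.mp h
      exact H.ne_one i (by rw [hi]; rfl)
    have h4 := Finset.sum_le_sum_of_subset (f := fun ψ : IrrCharacter G => charDegree (ψ : G → ℂ) ^ 2)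
      (Finset.subset_univ (insert (irrOne G) (Finset.univ.image χ)))
    rw [h2, Finset.sum_insert h3, Finset.sum_image fun i _ j _ h => H.inj h, F.card,
      charDegree_eq_of_eq (χ := (irrOne G : G → ℂ)) (n := 1) (by simp), one_pow] at h4
    rw [Finset.sum_congr rfl fun i _ => by rw [← sq_abs, H.nb_abs i]]
    exact_mod_cast h4
  · obtain ⟨z, h2, h3⟩ := hpw 2 b i (F.card ▸ dvd_mul_left _ _) (Nat.Coprime.dvd_of_dvd_mul_left
      (((Nat.Prime.coprime_iff_not_dvd (by norm_num)).mpr (by omega)).symm.pow_right a) (hd i))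
    by_contra h4
    exact H.nz2 i (by simpa using h4) z h2 h3
  · have : Fact (Nat.Prime 3) := ⟨by norm_num⟩
    obtain ⟨z, h2, h3⟩ := hpw 3 a i (F.card ▸ (dvd_mul_left _ _).mul_right _) (Nat.Coprime.dvd_of_dvd_mul_right
      (((Nat.Prime.coprime_iff_not_dvd (by norm_num)).mpr (by omega)).symm.pow_right b) (hd i))
    by_contra h4
    exact H.nz3 i (by simpa using h4) z h2 h3

end CL.T35
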