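/-
Project T35: the numerical case table.
-/
import Cfsg.Agent.T35.Defs

set_option autoImplicit false

namespace CL.T35

namespace Tab

theorem p3 (j : ℕ) : (j % 4 = 0 ∧ (3 : ℤ) ^ j % 80 = 1) ∨ (j % 4 = 1 ∧ (3 : ℤ) ^ j % 80 = 3) ∨
    (j % 4 = 2 ∧ (3 : ℤ) ^ j % 80 = 9) ∨ (j % 4 = 3 ∧ (3 : ℤ) ^ j % 80 = 27) := by
  induction j with
  | zero => simp
  | succ j ih => rw [pow_succ]; omega

theorem p2 (j : ℕ) : (j % 4 = 0 ∧ (2 : ℤ) ^ j % 15 = 1) ∨ (j % 4 = 1 ∧ (2 : ℤ) ^ j % 15 = 2) ∨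
    (j % 4 = 2 ∧ (2 : ℤ) ^ j % 15 = 4) ∨ (j % 4 = 3 ∧ (2 : ℤ) ^ j % 15 = 8) := by
  induction j with
  | zero => simp
  | succ j ih => rw [pow_succ]; omega

theorem split (c : ℤ) {k s : ℕ} (h : k ≤ s) : c ^ s = c ^ k * c ^ (s - k) := by rw [← pow_add, Nat.add_sub_cancel' h]

theorem c1 {s t : ℕ} (h : (2 : ℤ) ^ s - 1 = 3 ^ t) : s ≤ 2 := by
  by_contra hs
  have := split 2 (k := 3) (s := s) (by omega)
  have := p3 t
  omega

theorem c2 {s t : ℕ} (h : (2 : ℤ) ^ s + 1 = 3 ^ t) : s = 1 ∨ s = 3 := by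
  have := p3 t
  by_cases hs : 4 ≤ s
  · have := split 2 hs
    have := p2 s
    omega
  · obtain rfl | rfl | rfl | rfl : s = 0 ∨ s = 1 ∨ s = 2 ∨ s = 3 := by omega
    all_goals omega

theorem pw {p : ℕ} (hp : p.Prime) {d : ℤ} {n : ℕ} (h : d ∣ (p : ℤ) ^ n) : ∃ i ≤ n, d = (p : ℤ) ^ i ∨ d = -(p : ℤ) ^ i := by
  obtain ⟨i, hi, e⟩ := (Nat.dvd_prime_pow hp).1 (show d.natAbs ∣ p ^ n by simpa using Int.natAbs_dvd_natAbs.2 h)
  exact ⟨i, hi, by simpa [e] using Int.natAbs_eq d⟩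

theorem dvd2 {d : ℤ} {a b : ℕ} (h : d ∣ 3 ^ a * 2 ^ b) (h3 : ¬ 3 ∣ d) : d ∣ 2 ^ b :=
  (Int.prime_three.coprime_iff_not_dvd.2 h3).symm.pow_right.dvd_of_dvd_mul_left h

theorem dvd3 {d : ℤ} {a b : ℕ} (h : d ∣ 3 ^ a * 2 ^ b) (h2 : ¬ 2 ∣ d) : d ∣ 3 ^ a :=
  (Int.prime_two.coprime_iff_not_dvd.2 h2).symm.pow_right.dvd_of_dvd_mul_right h

/-- signed powers that are `1` modulo `5` -/
def P (c d : ℤ) (i : ℕ) : Prop := 2 ≤ i ∧ ((d = c ^ i ∧ i % 4 = 0) ∨ (d = -c ^ i ∧ i % 4 = 2))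

theorem P2 {d : ℤ} {b : ℕ} (h : d ∣ 2 ^ b) (h5 : d % 5 = 1) (h1 : d ≠ 1) : ∃ i ≤ b, P 2 d i := by
  obtain ⟨i, hi, e⟩ := pw Nat.prime_two h
  have := p2 i
  have h0 : i = 0 → (2 : ℤ) ^ i = 1 := by rintro rfl; rfl
  push_cast at e
  exact ⟨i, hi, by omega, by omega⟩

theorem P3 {d : ℤ} {a : ℕ} (h : d ∣ 3 ^ a) (h5 : d % 5 = 1) (h1 : d ≠ 1) : ∃ i ≤ a, P 3 d i := by
  obtain ⟨i, hi, e⟩ := pw Nat.prime_three h
  have := p3 i
  have h0 : i = 0 → (3 : ℤ) ^ i = 1 := by rintro rfl; rfl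
  push_cast at e
  exact ⟨i, hi, by omega, by omega⟩

theorem prod_cases {x y n : ℤ} (h : x * y = n) (h0 : n ≠ 0) (hn : -4 ≤ n ∧ n ≤ 4) : -4 ≤ x ∧ x ≤ 4 := by
  have := Int.le_of_dvd (abs_pos.2 h0) ((dvd_abs _ _).2 ((abs_dvd _ _).2 ⟨y, h.symm⟩))
  have h2 : |n| ≤ 4 := abs_le.2 hn
  exact abs_le.1 (this.trans h2)

variable {a b i j : ℕ} {Q R U W x y : ℤ}

theorem caseA0 (hi : i ≤ b) (hQ : P 2 Q i) (hR : P 3 R j) (h : 1 + R = -(2 ^ b * x))
    (hxy : x * y = -3 ∨ x * y = -1 ∨ x * y = 1) : R = -9 ∧ b = 3 ∧ x = 1 ∧ Q = -4 := by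
  have h1 := p3 j
  have h2 : (0 : ℤ) < 3 ^ j := by positivity
  obtain ⟨b1, b2⟩ : -4 ≤ x ∧ x ≤ 4 := prod_cases (y := y) rfl (by omega) (by omega)
  obtain ⟨i2, hQ⟩ := hQ
  obtain ⟨-, hR⟩ := hR
  have key : R = -9 ∧ b = 3 ∧ x = 1 := by
    by_cases hb : 4 ≤ b
    · rw [split 2 hb, mul_assoc] at h
      omega
    · obtain rfl | rfl : b = 2 ∨ b = 3 := by omega
      all_goals interval_cases x <;> omega
  obtain rfl : i = 2 := by omega
  omega

theorem caseA1 (ha : 2 ≤ a) (hW : W = 9 - 3 ^ a) (h5 : W % 5 = 1) (hd : W ∣ 3 ^ a * 2 ^ 3) : False := by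
  have h1 := p3 a
  have h2 := split 3 ha
  have h3 := split 3 (k := 3) (s := a - 2) (by omega)
  have h4 : (0 : ℤ) < 3 ^ (a - 2 - 3) := by positivity
  have h6 := Int.le_of_dvd (by norm_num) (dvd2 (d := 3 ^ (a - 2) - 1) (Dvd.dvd.trans ⟨-9, by omega⟩ hd) (by omega))
  omega

theorem caseB (ha : 2 ≤ a) (hQ : P 2 Q i) (h : 1 + Q = -(3 ^ a * y)) (hxy : x * y = -3 ∨ x * y = -1) : False := by
  have h1 := p2 i
  have h2 := split 3 ha
  have h3 : (0 : ℤ) < 3 ^ (a - 2) := by positivity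
  have h4 : (0 : ℤ) < 2 ^ i := by positivity
  obtain ⟨b1, b2⟩ : -4 ≤ y ∧ y ≤ 4 := prod_cases (y := x) (mul_comm _ _) (by omega) (by omega)
  obtain ⟨i2, hQ⟩ := hQ
  have k1 : (2 : ℤ) ^ i - 1 = 3 ^ a → i = 2 := fun e => by have := c1 e; omega
  have k2 : (2 : ℤ) ^ i - 1 = 3 ^ a * 3 → i = 2 := fun e => by have := c1 (e.trans (pow_succ _ _).symm); omega
  have k3 : i = 2 → (2 : ℤ) ^ i = 4 := by rintro rfl; rfl
  interval_cases y <;> omega

theorem caseD (hb : 2 ≤ b) (h : 1 + 2 ^ b * x + 3 ^ a * y = 0) (hxy : x * y = -4) : False := by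
  have h1 := p3 a
  have h2 := split 2 hb
  obtain ⟨b1, b2⟩ : -4 ≤ x ∧ x ≤ 4 := prod_cases (y := y) rfl (by omega) (by omega)
  have k1 : (2 : ℤ) ^ b * 4 - 1 = 3 ^ a → False := fun e => by
    have := c1 (s := b + 2) (by rw [pow_add]; exact e); omega
  have k2 : (2 : ℤ) ^ b * 4 + 1 = 3 ^ a → False := fun e => by
    have := c2 (s := b + 2) (by rw [pow_add]; exact e); omega
  obtain ⟨b3, b4⟩ : -4 ≤ y ∧ y ≤ 4 := prod_cases (y := x) (mul_comm _ _) (by omega) (by omega)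
  interval_cases x <;> interval_cases y <;> first | omega | exact k1 (by omega) | exact k2 (by omega)

theorem caseE (hi : i ≤ b) (hj : j ≤ a) (hQ : P 2 Q i) (hR : P 3 R j) (h1 : Q + W = 2 ^ b * x) (h2 : R + W = 3 ^ a * y)
    (hxy : x * y = 1) (h5 : W % 5 = 1) (hd : W ∣ 3 ^ a * 2 ^ b) : a = 3 ∧ b = 5 := by
  obtain ⟨i2, hQ⟩ := hQ
  obtain ⟨j2, hR⟩ := hR
  have e1 := split 3 j2
  have e2 := split 3 (j2.trans hj)
  have e3 := p2 i
  obtain ⟨e, rfl, rfl, he⟩ : ∃ e, x = e ∧ y = e ∧ (e = 1 ∨ e = -1) := by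
    rcases Int.eq_one_or_neg_one_of_mul_eq_one' hxy with h | h <;> exact ⟨x, rfl, by omega, by omega⟩
  have h9 : 9 ∣ W := by rcases he with rfl | rfl <;> omega
  obtain ⟨s, hs, hQs⟩ : ∃ s : ℤ, (s = 1 ∨ s = -1) ∧ Q = 2 ^ i * s := by
    rcases hQ with h | h
    · exact ⟨1, Or.inl rfl, by omega⟩
    · exact ⟨-1, Or.inr rfl, by omega⟩
  have hW : W = 2 ^ i * (2 ^ (b - i) * y - s) := by rw [split 2 hi] at h1; linear_combination h1 - hQs
  have hc : 1 ≤ b - i := by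
    by_contra hc
    rw [show b - i = 0 by omega, pow_zero] at hW
    rcases he with rfl | rfl <;> rcases hs with rfl | rfl <;> omega
  have e4 := split 2 hc
  have e5 : (0 : ℤ) < 2 ^ (b - i - 1) := by positivity
  have m9 : (9 : ℤ) ∣ 2 ^ (b - i) * y - s :=
    (show IsCoprime (9 : ℤ) 2 by norm_num).pow_right.dvd_of_dvd_mul_left (hW ▸ h9)
  obtain ⟨t, -, ht⟩ := pw Nat.prime_three (dvd3 (d := 2 ^ (b - i) * y - s) (Dvd.dvd.trans ⟨2 ^ i, by rw [hW, mul_comm]⟩ hd)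
    (by rcases he with rfl | rfl <;> omega))
  push_cast at ht
  have e6 : (0 : ℤ) < 3 ^ t := by positivity
  have k1 : (2 : ℤ) ^ (b - i) - 1 = 3 ^ t → (2 : ℤ) ^ (b - i) ≤ 4 := fun e =>
    (pow_le_pow_right₀ (by norm_num) (c1 e)).trans (by norm_num)
  have k2 : (2 : ℤ) ^ (b - i) + 1 = 3 ^ t → (2 : ℤ) ^ (b - i) = 2 ∨ b - i = 3 := fun e =>
    (c2 e).imp_left fun h => by rw [h, pow_one]
  have k3 : b - i = 3 := by rcases he with rfl | rfl <;> rcases hs with rfl | rfl <;> omega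
  rw [k3] at hW m9
  have hW' : W = 2 ^ i * 9 * y := by rcases he with rfl | rfl <;> rcases hs with rfl | rfl <;> omega
  obtain rfl : j = 2 := by
    by_contra hj2
    have := split 3 (k := 3) (s := j) (by omega)
    have := split 3 (k := 3) (s := a) (by omega)
    rcases he with rfl | rfl <;> omega
  rcases he with rfl | rfl
  · have := c1 (s := i) (t := a - 2) (by omega)
    obtain rfl : i = 2 := by omega
    have h3 : (3 : ℤ) ^ (a - 2) = 3 ^ 1 := by omega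
    have := pow_right_injective₀ (by norm_num) (by norm_num) h3
    omega
  · have := c2 (s := i) (t := a - 2) (by omega)
    omega

theorem NOut_perm {d : Fin 4 → ℤ} {f g : Fin 4 → Bool} (σ : Equiv.Perm (Fin 4))
    (h : NOut a b (fun i => d (σ i)) (fun i => f (σ i)) fun i => g (σ i)) : NOut a b d f g :=
  h.imp_right fun ⟨τ, h⟩ => ⟨σ * τ, h⟩

variable {d : Fin 4 → ℤ} {f g : Fin 4 → Bool}

theorem prod' (h : NB a b d f g) (f0 : f 0 = true) (g0 : g 0 = false) (f1 : f 1 = false) (g1 : g 1 = true) :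
    ∃ x y : ℤ, d 0 + (if f 2 then d 2 else 0) + (if f 3 then d 3 else 0) = 2 ^ b * x ∧
      d 1 + (if g 2 then d 2 else 0) + (if g 3 then d 3 else 0) = 3 ^ a * y ∧
      x * y + (1 + (if f 2 then 1 else 0) + (if f 3 then 1 else 0)) * (1 + (if g 2 then 1 else 0) + (if g 3 then 1 else 0)) =
        5 * ((if f 2 ∧ g 2 then 1 else 0) + (if f 3 ∧ g 3 then 1 else 0)) := by
  obtain ⟨x, y, h1, h2, h3⟩ := h.prod
  simp only [Finset.card_filter, Finset.sum_filter, Fin.sum_univ_four, f0, g0, f1, g1] at h1 h2 h3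
  push_cast at h3
  exact ⟨x, y, by simpa using h1, by simpa using h2, by simpa using h3⟩

theorem half (h0 : Num00) (h1 : Num10) (h : NB a b d f g) (n0 : ¬ 3 ∣ d 0) (g0 : g 0 = false) (n1 : ¬ 2 ∣ d 1)
    (f1 : f 1 = false) (f2 : f 2 = false) (g2 : g 2 = false) : NOut a b d f g := by
  have f0 := h.pw2 0 n0
  have g1 := h.pw3 1 n1
  obtain ⟨i, hi, hQ⟩ := P2 (dvd2 (h.dvd 0) n0) (h.mod5 0) (h.ne_one 0)
  obtain ⟨j, hj, hR⟩ := P3 (dvd3 (h.dvd 1) n1) (h.mod5 1) (h.ne_one 1)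
  obtain ⟨x, y, hx, hy, hxy⟩ := prod' h f0 g0 f1 g1
  have hS := h.sum
  rw [Fin.sum_univ_four] at hS
  have u2 : 2 ∣ d 2 := by_contra fun e => by simpa [g2] using h.pw3 2 e
  have u3 : 3 ∣ d 2 := by_contra fun e => by simpa [f2] using h.pw2 2 e
  have l2 : (2 : ℤ) ^ i ≤ 2 ^ b := pow_le_pow_right₀ (by norm_num) hi
  have l3 : (3 : ℤ) ^ j ≤ 3 ^ a := pow_le_pow_right₀ (by norm_num) hj
  have q2 : (0 : ℤ) < 2 ^ i := by positivity
  have q3 : (0 : ℤ) < 3 ^ j := by positivity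
  cases f3 : f 3 <;> cases g3 : g 3 <;> simp only [f2, g2, f3, g3, Bool.false_eq_true, if_true, if_false, and_self,
    and_false, false_and] at hx hy hxy
  · have w2 : 2 ∣ d 3 := by_contra fun e => by simpa [g3] using h.pw3 3 e
    have w3 : 3 ∣ d 3 := by_contra fun e => by simpa [f3] using h.pw2 3 e
    have := p2 i
    have := split 3 hR.1
    obtain ⟨rfl, rfl⟩ | ⟨rfl, rfl⟩ := Int.eq_one_or_neg_one_of_mul_eq_neg_one' (show x * y = -1 by omega)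
    · have := hQ.2
      have := hR.2
      omega
    · obtain ⟨rfl, rfl, e⟩ := h0 a b d f g h (by omega) (by omega) (by omega) (by omega)
      have e0 : d 0 = -64 := by omega
      have e1 : d 1 = 81 := by omega
      rcases e with e | e | e | e
      · exact Or.inr ⟨1, Or.inl ⟨rfl, rfl, e0, e1, e⟩⟩
      · exact Or.inr ⟨Equiv.swap 2 3, Or.inl ⟨rfl, rfl, e0, e1, e.2, e.1⟩⟩
      · exact Or.inr ⟨1, Or.inr (Or.inl ⟨rfl, rfl, e0, e1, e.1, e.2, g2⟩)⟩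
      · exact Or.inr ⟨Equiv.swap 2 3, Or.inr (Or.inl ⟨rfl, rfl, e0, e1, e.2, e.1, g3⟩)⟩
  · exfalso
    obtain ⟨b1, b2⟩ : -4 ≤ x ∧ x ≤ 4 := prod_cases (y := y) rfl (by omega) (by omega)
    obtain ⟨b3, b4⟩ : -4 ≤ y ∧ y ≤ 4 := prod_cases (y := x) (mul_comm _ _) (by omega) (by omega)
    have := split 2 hQ.1
    have := hQ.2
    interval_cases x <;> interval_cases y <;> omega
  · obtain ⟨b1, b2⟩ : -4 ≤ x ∧ x ≤ 4 := prod_cases (y := y) rfl (by omega) (by omega)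
    obtain ⟨b3, b4⟩ : -4 ≤ y ∧ y ≤ 4 := prod_cases (y := x) (mul_comm _ _) (by omega) (by omega)
    have := hR.2
    rcases h1 a b d f g h n0 (by rw [pow_succ]; interval_cases x <;> interval_cases y <;> omega) (by omega) with
      ⟨rfl, rfl⟩ | ⟨rfl, rfl, e1, e2⟩
    · exact Or.inl (by norm_num)
    · exact Or.inr ⟨1, Or.inr (Or.inr ⟨rfl, rfl, n0, e1, e2, f0, f1, f2, f3⟩)⟩
  · obtain ⟨rfl, rfl⟩ := caseE (W := d 3) (x := x) (y := y) hi hj hQ hR (by omega) (by omega) (by omega) (h.mod5 3)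
      (h.dvd 3)
    exact Or.inl (by norm_num)

theorem rest (h : NB a b d f g) (n0 : ¬ 3 ∣ d 0) (g0 : g 0 = false) (n1 : ¬ 2 ∣ d 1)
    (f1 : f 1 = false) (h2 : ¬ (f 2 = false ∧ g 2 = false)) (h3 : ¬ (f 3 = false ∧ g 3 = false)) : False := by
  have f0 := h.pw2 0 n0
  have g1 := h.pw3 1 n1
  obtain ⟨i, hi, hQ⟩ := P2 (dvd2 (h.dvd 0) n0) (h.mod5 0) (h.ne_one 0)
  obtain ⟨j, hj, hR⟩ := P3 (dvd3 (h.dvd 1) n1) (h.mod5 1) (h.ne_one 1)
  obtain ⟨x, y, hx, hy, hxy⟩ := prod' h f0 g0 f1 g1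
  have hS := h.sum
  rw [Fin.sum_univ_four] at hS
  have ha := hR.1.trans hj
  have hb := hQ.1.trans hi
  have e3 := split 3 ha
  have kA := caseA0 (x := x) (y := y) hi hQ hR
  have kB := caseB (x := x) (y := y) ha hQ
  have kD := caseD (a := a) (x := x) (y := y) hb
  cases f2 : f 2 <;> cases g2 : g 2 <;> cases f3 : f 3 <;> cases g3 : g 3 <;>
    simp only [f2, g2, f3, g3, Bool.false_eq_true, Bool.true_eq_false, if_true, if_false, and_self, and_false, false_and,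
      not_true] at hx hy hxy h2 h3
  · exact kB (by omega) (by omega)
  · exact kD (by omega) (by omega)
  · exact kB (by omega) (by omega)
  · exact kD (by omega) (by omega)
  · obtain ⟨a1, rfl, rfl, a2⟩ := kA (by omega) (by omega)
    obtain rfl : y = -3 := by omega
    omega
  · obtain ⟨a1, rfl, rfl, a2⟩ := kA (by omega) (by omega)
    obtain rfl : y = -1 := by omega
    exact caseA1 ha (by omega) (h.mod5 3) (h.dvd 3)
  · exact kB (by omega) (by omega)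
  · obtain ⟨a1, rfl, rfl, a2⟩ := kA (by omega) (by omega)
    obtain rfl : y = -1 := by omega
    exact caseA1 ha (by omega) (h.mod5 2) (h.dvd 2)
  · obtain ⟨a1, rfl, rfl, a2⟩ := kA (by omega) (by omega)
    obtain rfl : y = 1 := by omega
    omega

theorem exists_not {p : ℤ} (hp : ¬ p ∣ 1) {f : Fin 4 → Bool} (hs : 1 + ∑ i, d i = 0) (h : p ∣ ∑ i with f i = true, d i) :
    ∃ i, f i = false ∧ ¬ p ∣ d i := by
  by_contra hc
  have h1 : p ∣ ∑ i with ¬ f i = true, d i := Finset.dvd_sum fun i hi =>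
    by_contra fun e => hc ⟨i, by simpa using hi, e⟩
  have h2 := dvd_add h h1
  rw [Finset.sum_filter_add_sum_filter_not, ← neg_eq_of_add_eq_zero_right hs] at h2
  exact hp ((dvd_neg).1 h2)

end Tab

open Tab in
theorem stepNum (h0 : Num00) (h1 : Num10) : StepNum := by
  intro a b d f g h
  obtain ⟨x, y, hx, hy, -⟩ := h.prod
  have ha : a ≠ 0 := by
    rintro rfl
    have : (2 : ℤ) ∣ ∑ i, d i := Finset.dvd_sum fun k _ => by
      obtain ⟨i, -, h1, h2⟩ := P2 (b := b) (by simpa using h.dvd k) (h.mod5 k) (h.ne_one k)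
      have := split 2 h1
      omega
    have := h.sum
    omega
  have hb : b ≠ 0 := by
    rintro rfl
    have : (3 : ℤ) ∣ ∑ i, d i := Finset.dvd_sum fun k _ => by
      obtain ⟨i, -, h1, h2⟩ := P3 (a := a) (by simpa using h.dvd k) (h.mod5 k) (h.ne_one k)
      have := split 3 h1
      omega
    have := h.sum
    omega
  obtain ⟨Q, gQ, nQ⟩ := exists_not (p := 3) (by norm_num) h.sum (hy ▸ (dvd_pow_self 3 ha).mul_right y)
  obtain ⟨R, fR, nR⟩ := exists_not (p := 2) (by norm_num) h.sum (hx ▸ (dvd_pow_self 2 hb).mul_right x)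
  have hne : Q ≠ R := by
    rintro rfl
    simpa [fR] using h.pw2 Q nQ
  obtain ⟨σ, rfl, rfl⟩ : ∃ σ : Equiv.Perm (Fin 4), σ 0 = Q ∧ σ 1 = R :=
    ⟨Equiv.swap 0 Q * Equiv.swap 1 (Equiv.swap 0 Q R), by clear gQ nQ fR nR; revert Q R; decide⟩
  by_cases c2 : f (σ 2) = false ∧ g (σ 2) = false
  · exact NOut_perm σ (half h0 h1 (h.perm σ) nQ gQ nR fR c2.1 c2.2)
  by_cases c3 : f (σ 3) = false ∧ g (σ 3) = false
  · exact NOut_perm (σ * Equiv.swap 2 3) (half h0 h1 (h.perm _) nQ gQ nR fR c3.1 c3.2)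
  exact (rest (h.perm σ) nQ gQ nR fR c2 c3).elim

end CL.T35
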