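/-
Project T35: the two bounded Diophantine cases.
-/
import Cfsg.Agent.T35.Defs
import Mathlib.NumberTheory.Multiplicity

set_option autoImplicit false

namespace CL.T35

namespace N0

theorem lte {k c : ℕ} (h : (3 : ℤ) ^ (k + 1) ∣ 4 ^ c - 1) : 3 ^ k ∣ c := by
  have h1 := Int.emultiplicity_pow_sub_pow (p := 3) Nat.prime_three (by decide) (x := 4) (y := 1)
    (by norm_num) (by norm_num) c
  have h2 : emultiplicity ((3 : ℕ) : ℤ) (4 - 1) = 1 := by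
    have : ((4 : ℤ) - 1) = ((3 : ℕ) : ℤ) ^ 1 := by norm_num
    rw [this]
    exact emultiplicity_pow_self_of_prime (Nat.prime_iff_prime_int.1 Nat.prime_three) 1
  rw [one_pow, h2] at h1
  have h3 : ((k + 1 : ℕ) : ℕ∞) ≤ emultiplicity ((3 : ℕ) : ℤ) (4 ^ c - 1) :=
    pow_dvd_iff_le_emultiplicity.1 (by exact_mod_cast h)
  rw [h1, Nat.cast_add, Nat.cast_one, add_comm] at h3
  exact pow_dvd_iff_le_emultiplicity.2 ((ENat.add_le_add_iff_left (by simp)).1 h3)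

theorem shape {a b : ℕ} {d : ℤ} (h : d ∣ 3 ^ a * 2 ^ b) :
    ∃ i k : ℕ, i ≤ b ∧ k ≤ a ∧ (d = 2 ^ i * 3 ^ k ∨ d = -(2 ^ i * 3 ^ k)) := by
  have h1 : d.natAbs ∣ 3 ^ a * 2 ^ b := by
    have := Int.natAbs_dvd_natAbs.2 h
    simpa [Int.natAbs_mul, Int.natAbs_pow] using this
  obtain ⟨y, z, hy, hz, e⟩ := (Nat.dvd_mul).1 h1
  obtain ⟨k, hk, rfl⟩ := (Nat.dvd_prime_pow Nat.prime_three).1 hy
  obtain ⟨i, hi, rfl⟩ := (Nat.dvd_prime_pow Nat.prime_two).1 hz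
  refine ⟨i, k, hi, hk, ?_⟩
  rcases Int.natAbs_eq d with h2 | h2
  · left; rw [h2, ← e]; push_cast; ring
  · right; rw [h2, ← e]; push_cast; ring

theorem three80 (k : ℕ) : (k % 4 = 0 ∧ (3 : ℤ) ^ k % 80 = 1) ∨ (k % 4 = 1 ∧ (3 : ℤ) ^ k % 80 = 3) ∨
    (k % 4 = 2 ∧ (3 : ℤ) ^ k % 80 = 9) ∨ (k % 4 = 3 ∧ (3 : ℤ) ^ k % 80 = 27) := by
  induction k with
  | zero => simp
  | succ k ih => rw [pow_succ]; omega

theorem two15 (k : ℕ) : (k % 4 = 0 ∧ (2 : ℤ) ^ k % 15 = 1) ∨ (k % 4 = 1 ∧ (2 : ℤ) ^ k % 15 = 2) ∨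
    (k % 4 = 2 ∧ (2 : ℤ) ^ k % 15 = 4) ∨ (k % 4 = 3 ∧ (2 : ℤ) ^ k % 15 = 8) := by
  induction k with
  | zero => simp
  | succ k ih => rw [pow_succ]; omega

/-- the 2-part of `± 2^i 3^k` read off modulo 16 -/
theorem two_cases (i : ℕ) : i = 0 ∨ i = 1 ∨ i = 2 ∨ i = 3 ∨ ∃ m : ℤ, 4 ≤ i ∧ (2 : ℤ) ^ i = 16 * m := by
  by_cases h : 4 ≤ i
  · obtain ⟨j, rfl⟩ := Nat.exists_eq_add_of_le h
    exact Or.inr (Or.inr (Or.inr (Or.inr ⟨2 ^ j, h, by rw [pow_add]; norm_num⟩)))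
  · omega

theorem bound_aux (b : ℕ) (hb : 49 ≤ b) : 5 * (12 * b) ^ 5 < 2 ^ b := by
  induction b, hb using Nat.le_induction with
  | base => norm_num
  | succ b hb ih =>
    have h1 : 8 * (12 * (b + 1)) ≤ 9 * (12 * b) := by omega
    have h2 := Nat.pow_le_pow_left h1 5
    rw [mul_pow, mul_pow 9] at h2
    rw [pow_succ 2 b]
    omega

theorem bound {b : ℕ} {n : ℤ} (h0 : 0 ≤ n) (hn : n ≤ 12 * b) (h : (2 : ℤ) ^ b ≤ 5 * n ^ 5) : b < 49 := by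
  by_contra hb
  have h1 := bound_aux b (not_lt.1 hb)
  have h2 : n ^ 5 ≤ (12 * (b : ℤ)) ^ 5 := pow_le_pow_left₀ h0 hn 5
  have h3 : (5 : ℤ) * (12 * (b : ℤ)) ^ 5 < 2 ^ b := by exact_mod_cast h1
  omega

theorem a_bound {a b : ℕ} (hb : b < 49) (h : (3 : ℤ) ^ a ≤ 5 * 2 ^ b) : a < 33 := by
  by_contra ha
  have h1 : (3 : ℤ) ^ 33 ≤ 3 ^ a := pow_le_pow_right₀ (by norm_num) (not_lt.1 ha)
  have h2 : (2 : ℤ) ^ b ≤ 2 ^ 49 := pow_le_pow_right₀ (by norm_num) hb.le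
  norm_num at h1 h2
  omega

theorem fin00 : ∀ β : Fin 12, ∀ α : Fin 9, ∀ k : Fin 33, ∀ s : Bool,
    let x : ℤ := if s then 2 * 3 ^ k.1 else -(2 * 3 ^ k.1)
    let y : ℤ := 2 ^ (4 * β.1 + 2) - 1 - 3 ^ (4 * α.1) - x
    0 < α.1 → x % 5 = 1 → (3 ^ (4 * α.1) * 2 ^ (4 * β.1 + 2)) % y = 0 →
      α.1 = 1 ∧ β.1 = 1 ∧ ((x = 6 ∧ y = -24) ∨ (x = -54 ∧ y = 36)) := by
  decide +kernel

theorem fin10 : ∀ β : Fin 13, ∀ a : Fin 33, ∀ k : Fin 33, ∀ s : Bool,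
    let x : ℤ := if s then 8 * 3 ^ k.1 else -(8 * 3 ^ k.1)
    0 < β.1 → 3 ^ a.1 = 2 ^ (4 * β.1 + 1) + 1 + x →
      (a.1 = 2 ∧ β.1 = 1) ∨ (a.1 = 6 ∧ β.1 = 2 ∧ x = 216) := by
  decide +kernel

theorem le_of_sq {u v : ℤ} (hu : 0 < u) (h : u ^ 2 ≤ 5 * u * v) : u ≤ 5 * v := by
  by_contra hc
  nlinarith

theorem lte_le {k c : ℕ} (hk : k ≠ 0) (hc : 0 < c) (h : (3 : ℤ) ^ k ∣ 4 ^ c - 1) : (3 : ℤ) ^ k ≤ 3 * c := by
  obtain ⟨k, rfl⟩ := Nat.exists_eq_succ_of_ne_zero hk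
  have h1 : ((3 ^ k : ℕ) : ℤ) ≤ c := by exact_mod_cast Nat.le_of_dvd hc (lte h)
  rw [pow_succ]
  push_cast at h1
  omega

theorem part {a b : ℕ} {x : ℤ} (h : x ∣ 3 ^ a * 2 ^ b) (h3 : 3 ∣ x) : ∃ k : ℕ, k ≠ 0 ∧ k ≤ a ∧ 3 ^ k ∣ x ∧
    (x % 4 = 2 → x = 2 * 3 ^ k ∨ x = -(2 * 3 ^ k)) ∧ (x % 16 = 4 → x = 4 * 3 ^ k ∨ x = -(4 * 3 ^ k)) ∧
    (x % 16 = 8 → x = 8 * 3 ^ k ∨ x = -(8 * 3 ^ k)) := by
  obtain ⟨i, k, -, hk, e⟩ := shape h
  have ho : (3 : ℤ) ^ k % 2 = 1 := by have := three80 k; omega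
  refine ⟨k, ?_, hk, ?_, ?_⟩
  · rintro rfl
    have := two15 i
    omega
  · rcases e with e | e <;> rw [e] <;> simp
  · rcases two_cases i with h | h | h | h | ⟨n, -, h⟩
    · subst h; omega
    · subst h; omega
    · subst h; omega
    · subst h; omega
    · rw [h, mul_assoc] at e; omega

theorem sixteen {b : ℕ} (hb : 4 ≤ b) : (2 : ℤ) ^ b % 16 = 0 := by
  obtain ⟨j, rfl⟩ := Nat.exists_eq_add_of_le hb
  rw [pow_add]
  omega

theorem mod16 {k : ℕ} {x : ℤ} (h : x = 2 * 3 ^ k ∨ x = -(2 * 3 ^ k)) (h5 : x % 5 = 1) :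
    x % 16 = 6 ∨ x % 16 = 10 := by
  have := three80 k
  omega

theorem core00 {a b : ℕ} {x y : ℤ} (ha : a % 4 = 0) (ha0 : 0 < a) (hb : b % 4 = 2)
    (hab : (3 : ℤ) ^ a ≤ 5 * 2 ^ b) (hx5 : x % 5 = 1) (hx : x ∣ 3 ^ a * 2 ^ b) (hy : y ∣ 3 ^ a * 2 ^ b)
    (hx3 : 3 ∣ x) (hy3 : 3 ∣ y) (hs : 1 + 3 ^ a + x + y = 2 ^ b) (hx4 : x % 4 = 2)
    (gx : (2 : ℤ) ^ b ≤ 5 * |x| ^ 5) (gy : (2 : ℤ) ^ b ≤ 5 * |y| ^ 5) :
    a = 4 ∧ b = 6 ∧ ((x = 6 ∧ y = -24) ∨ (x = -54 ∧ y = 36)) := by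
  have h81 : (3 : ℤ) ^ 4 ≤ 3 ^ a := pow_le_pow_right₀ (by norm_num) (by omega)
  have hb6 : 4 ≤ b := by
    by_contra hc
    obtain rfl : b = 2 := by omega
    norm_num at hab h81
    omega
  have hm := sixteen hb6
  obtain ⟨k, hk0, hk, dx, ex, -, -⟩ := part hx hx3
  obtain ⟨l, hl0, hl, dy, -, ey4, ey8⟩ := part hy hy3
  have ex' := ex hx4
  have ta : (3 : ℤ) ^ a % 16 = 1 := by have := three80 a; omega
  have hy16 : y % 16 = 8 ∨ y % 16 = 4 := by have := mod16 ex' hx5; omega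
  have pk : (0 : ℤ) < 3 ^ k := by positivity
  have pl : (0 : ℤ) < 3 ^ l := by positivity
  have ax : |x| ≤ 8 * 3 ^ k := abs_le.2 (by omega)
  have ay : |y| ≤ 8 * 3 ^ l := abs_le.2 (by omega)
  clear ex ey4 ey8 hy16
  have key : ∀ μ : ℕ, μ ≠ 0 → μ ≤ k → μ ≤ l → 8 * (3 : ℤ) ^ μ ≤ 12 * b := by
    intro μ h0 h1 h2
    obtain ⟨c, rfl⟩ : ∃ c, b = 2 * c := ⟨b / 2, by omega⟩
    have h3 : (3 : ℤ) ^ μ ∣ 4 ^ c - 1 := by
      have : (4 : ℤ) ^ c - 1 = 3 ^ a + x + y := by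
        rw [pow_mul] at hs; norm_num at hs; omega
      rw [this]
      exact dvd_add (dvd_add (pow_dvd_pow _ (h1.trans hk)) ((pow_dvd_pow _ h1).trans dx))
        ((pow_dvd_pow _ h2).trans dy)
    have := lte_le h0 (by omega) h3
    push_cast
    omega
  have hb49 : b < 49 := by
    rcases le_total k l with h | h
    · exact bound (abs_nonneg x) (ax.trans (key k hk0 le_rfl h)) gx
    · exact bound (abs_nonneg y) (ay.trans (key l hl0 h le_rfl)) gy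
  have ha33 := a_bound hb49 hab
  obtain ⟨β, rfl⟩ : ∃ β, b = 4 * β + 2 := ⟨b / 4, by omega⟩
  obtain ⟨α, rfl⟩ : ∃ α, a = 4 * α := ⟨a / 4, by omega⟩
  have ey2 : y = 2 ^ (4 * β + 2) - 1 - 3 ^ (4 * α) - x := by omega
  have hd := Int.emod_eq_zero_of_dvd hy
  rcases ex' with h | h
  · have := fin00 ⟨β, by omega⟩ ⟨α, by omega⟩ ⟨k, by omega⟩ true
    simp only [if_true, ← h, ← ey2] at this
    obtain ⟨rfl, rfl, h'⟩ := this (by omega) hx5 hd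
    exact ⟨rfl, rfl, h'⟩
  · have := fin00 ⟨β, by omega⟩ ⟨α, by omega⟩ ⟨k, by omega⟩ false
    simp only [Bool.false_eq_true, if_false, ← h, ← ey2] at this
    obtain ⟨rfl, rfl, h'⟩ := this (by omega) hx5 hd
    exact ⟨rfl, rfl, h'⟩

section
variable {a b : ℕ} {d : Fin 4 → ℤ} {f g : Fin 4 → Bool}

theorem gap3 (h : NB a b d f g) (X : Fin 4) : ∃ j, j ≠ X ∧ |d j| ≤ |d X| ^ 3 := by
  have h5 := h.mod5 X
  have h1 : 1 ≤ |d X| := Int.one_le_abs (by omega)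
  obtain ⟨j, hj, h2⟩ := h.gap X {X} (by rw [Finset.sum_singleton]; omega)
  refine ⟨j, by simpa using hj, ?_⟩
  rw [← sq_abs (d X)] at h2
  rcases h2 with h2 | ⟨k, hk, h2⟩
  · exact h2.trans (pow_le_pow_right₀ h1 (by norm_num))
  · rw [Finset.mem_singleton.1 hk] at h2
    exact h2.trans_eq (by ring)

theorem gap5 (h : NB a b d f g) (X Y : Fin 4) (hne : X ≠ Y) :
    ∃ j, j ≠ X ∧ j ≠ Y ∧ |d j| ≤ |d X| ^ 5 := by
  have h5 := h.mod5 X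
  have h5' := h.mod5 Y
  have h1 : 1 ≤ |d X| := Int.one_le_abs (by omega)
  obtain ⟨j, hj, h2⟩ := gap3 h X
  by_cases e : j = Y
  · subst e
    obtain ⟨i, hi, h3⟩ := h.gap X {X, j} (by rw [Finset.sum_pair hne]; omega)
    simp only [Finset.mem_insert, Finset.mem_singleton, not_or] at hi
    refine ⟨i, hi.1, hi.2, ?_⟩
    rw [← sq_abs (d X)] at h3
    rcases h3 with h3 | ⟨k, hk, h3⟩
    · exact h3.trans (pow_le_pow_right₀ h1 (by norm_num))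
    · have h4 : |d k| ≤ |d X| ^ 3 := by
        simp only [Finset.mem_insert, Finset.mem_singleton] at hk
        rcases hk with rfl | rfl
        · exact le_self_pow₀ h1 (by norm_num)
        · exact h2
      calc |d i| ≤ |d X| ^ 2 * |d k| := h3
        _ ≤ |d X| ^ 2 * |d X| ^ 3 := mul_le_mul_of_nonneg_left h4 (by positivity)
        _ = |d X| ^ 5 := by ring
  · exact ⟨j, hj, e, h2.trans (pow_le_pow_right₀ h1 (by norm_num))⟩

theorem sq_le (h : NB a b d f g) (i : Fin 4) : d i ^ 2 ≤ 5 * 3 ^ a * 2 ^ b := by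
  have h1 := h.sq
  have h2 : d i ^ 2 ≤ ∑ i, d i ^ 2 :=
    Finset.single_le_sum (f := fun i => d i ^ 2) (fun i _ => sq_nonneg _) (Finset.mem_univ i)
  omega

end

theorem no_pow {a b s : ℕ} {t : ℤ} (hs : 4 ≤ s) (ht : t = 2 ^ s - 1 ∨ t = 2 ^ s + 1)
    (h : t ∣ 3 ^ a * 2 ^ b) : False := by
  obtain ⟨u, v, -, -, e⟩ := shape h
  have tv := three80 v
  have ts := two15 s
  have pv : (0 : ℤ) < 3 ^ v := by positivity
  have ps : (0 : ℤ) < 2 ^ s := by positivity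
  rcases two_cases s with h | h | h | h | ⟨m, -, hm⟩
  · omega
  · omega
  · omega
  · omega
  rcases two_cases u with h | h | h | h | ⟨n, -, h⟩
  · subst h; omega
  · subst h; omega
  · subst h; omega
  · subst h; omega
  · rw [h, mul_assoc] at e; omega

theorem near {a b i : ℕ} {x y : ℤ} (e0 : x = 2 ^ i ∨ x = -2 ^ i) (h3 : x + y = 2 ^ (b + 1))
    (hy : y ∣ 3 ^ a * 2 ^ b) : (2 : ℤ) ^ b ≤ 4 * |x| := by
  have h5 : b ≤ i + 2 := by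
    by_contra hc
    obtain ⟨s, hs'⟩ : ∃ s, b + 1 = i + s := ⟨b + 1 - i, by omega⟩
    have h6 : (2 : ℤ) ^ (b + 1) = 2 ^ i * 2 ^ s := by rw [hs', pow_add]
    rcases e0 with e0 | e0
    · exact no_pow (s := s) (by omega) (Or.inl rfl)
        ((Dvd.intro_left (2 ^ i) (by rw [mul_sub]; linarith)).trans hy)
    · exact no_pow (s := s) (by omega) (Or.inr rfl)
        ((Dvd.intro_left (2 ^ i) (by rw [mul_add]; linarith)).trans hy)
  have h6 : (2 : ℤ) ^ b ≤ 2 ^ (i + 2) := pow_le_pow_right₀ (by norm_num) h5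
  have h7 := le_abs_self x
  have h8 := neg_abs_le x
  rw [pow_add] at h6
  rcases e0 with e0 | e0 <;> linarith

theorem bound3 {b : ℕ} {n : ℤ} (hb : 4 ≤ b) (h0 : 0 ≤ n) (hn : n ≤ 24 * (b + 1)) (hg : (2 : ℤ) ^ b ≤ 4 * n ^ 3) :
    b < 49 := by
  refine bound (n := 12 * b) (by positivity) le_rfl (hg.trans ?_)
  have h5 : n ^ 3 ≤ (3 * (12 * (b : ℤ))) ^ 3 := pow_le_pow_left₀ h0 (by omega) 3
  have h6 : (48 : ℤ) ≤ 12 * b := by omega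
  generalize (12 * (b : ℤ)) = B at h5 h6
  have h7 : (48 : ℤ) ^ 2 ≤ B ^ 2 := pow_le_pow_left₀ (by norm_num) h6 2
  have h8 : (0 : ℤ) ≤ B ^ 3 := by positivity
  have h9 : 48 ^ 2 * B ^ 3 ≤ B ^ 2 * B ^ 3 := mul_le_mul_of_nonneg_right h7 h8
  nlinarith

theorem core10 {a b : ℕ} {x : ℤ} (ha : (3 : ℤ) ^ a % 5 = 4) (hb : b % 4 = 0) (hb0 : b ≠ 0)
    (hab : (3 : ℤ) ^ a ≤ 5 * 2 ^ b) (hx : x ∣ 3 ^ a * 2 ^ b) (hx3 : 3 ∣ x)
    (eq : (3 : ℤ) ^ a = 2 ^ (b + 1) + 1 + x) (hg : (2 : ℤ) ^ b ≤ 4 * |x| ^ 3) :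
    (a = 2 ∧ b = 4) ∨ (a = 6 ∧ b = 8 ∧ x = 216) := by
  have ta9 : (3 : ℤ) ^ a % 16 = 9 := by have := three80 a; omega
  have hm := sixteen (b := b + 1) (by omega)
  obtain ⟨k, hk0, hk, dx, -, -, e2⟩ := part hx hx3
  have e2' := e2 (by omega)
  clear e2
  have pk : (0 : ℤ) < 3 ^ k := by positivity
  have hk3 : (3 : ℤ) ^ k ≤ 3 * ((b + 1 : ℕ) : ℤ) := by
    refine lte_le hk0 (by omega) ?_
    have : (4 : ℤ) ^ (b + 1) - 1 = (3 ^ a - x) * (2 ^ (b + 1) - 1) := by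
      rw [eq, show (4 : ℤ) = 2 * 2 by norm_num, mul_pow]; ring
    rw [this]
    exact (dvd_sub (pow_dvd_pow _ hk) dx).mul_right _
  have hn : |x| ≤ 24 * (b + 1) := by
    push_cast at hk3
    rcases e2' with e | e <;> exact abs_le.2 ⟨by linarith, by linarith⟩
  have hb49 := bound3 (by omega) (abs_nonneg x) hn hg
  have ha33 := a_bound hb49 hab
  obtain ⟨β, rfl⟩ : ∃ β, b = 4 * β := ⟨b / 4, by omega⟩
  have fin : (a = 2 ∧ β = 1) ∨ (a = 6 ∧ β = 2 ∧ x = 216) := by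
    rcases e2' with e | e
    · have := fin10 ⟨β, by omega⟩ ⟨a, ha33⟩ ⟨k, hk.trans_lt ha33⟩ true
      simp only [if_true, ← e] at this
      exact this (by omega) eq
    · have := fin10 ⟨β, by omega⟩ ⟨a, ha33⟩ ⟨k, hk.trans_lt ha33⟩ false
      simp only [Bool.false_eq_true, if_false, ← e] at this
      exact this (by omega) eq
  rcases fin with ⟨rfl, rfl⟩ | ⟨rfl, rfl, e⟩
  · exact Or.inl ⟨rfl, rfl⟩
  · exact Or.inr ⟨rfl, rfl, e⟩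

end N0

open N0

theorem num00 : Num00 := by
  intro a b d f g h h0 h1 h2 h3
  have hs := h.sum
  rw [Fin.sum_univ_four, h0, h1] at hs
  have m0 := h.mod5 0
  have m1 := h.mod5 1
  have n1 := h.ne_one 1
  have s0 := sq_le h 0
  have s1 := sq_le h 1
  rw [h0] at m0 s0
  rw [h1] at m1 n1 s1
  have ta := three80 a
  have tb := two15 b
  have ha : a % 4 = 0 := by omega
  have hb : b % 4 = 2 := by omega
  have ha0 : 0 < a := Nat.pos_of_ne_zero (by rintro rfl; exact n1 rfl)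
  have pa : (0 : ℤ) < 3 ^ a := by positivity
  have pb : (0 : ℤ) < 2 ^ b := by positivity
  have hab : (3 : ℤ) ^ a ≤ 5 * 2 ^ b := le_of_sq pa s1
  have hba : (2 : ℤ) ^ b ≤ 5 * 3 ^ a := le_of_sq pb (by rw [neg_sq] at s0; linarith)
  have gg : ∀ X Y : Fin 4, X ≠ Y → (∀ j, j ≠ X → j ≠ Y → j = 0 ∨ j = 1) → (2 : ℤ) ^ b ≤ 5 * |d X| ^ 5 := by
    intro X Y hne hj
    obtain ⟨j, j1, j2, h4⟩ := gap5 h X Y hne
    rcases hj j j1 j2 with rfl | rfl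
    · rw [h0, abs_neg, abs_of_pos pb] at h4; omega
    · rw [h1, abs_of_pos pa] at h4; omega
  have g2 := gg 2 3 (by decide) (by decide)
  have g3 := gg 3 2 (by decide) (by decide)
  have h4 : ∃ m : ℤ, (2 : ℤ) ^ b = 4 * m := by
    obtain ⟨c, rfl⟩ : ∃ c, b = c + 2 := ⟨b - 2, by omega⟩
    exact ⟨2 ^ c, by ring⟩
  obtain ⟨m, hm⟩ := h4
  by_cases e : d 2 % 4 = 2
  · have := core00 ha ha0 hb hab (h.mod5 2) (h.dvd 2) (h.dvd 3) (by omega) (by omega) (by omega) e g2 g3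
    omega
  · have := core00 ha ha0 hb hab (h.mod5 3) (h.dvd 3) (h.dvd 2) (by omega) (by omega) (by omega)
      (by omega) g3 g2
    omega

theorem num10 : Num10 := by
  intro a b d f g h h0 h1 h2
  have hs := h.sum
  rw [Fin.sum_univ_four] at hs
  have m0 := h.mod5 0
  have m1 := h.mod5 1
  have m3 := h.mod5 3
  have n0 := h.ne_one 0
  have n1 := h.ne_one 1
  have pa : (0 : ℤ) < 3 ^ a := by positivity
  have pb : (0 : ℤ) < 2 ^ b := by positivity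
  rcases h1 with ⟨h1, h3⟩ | ⟨h1, h3⟩
  · exfalso
    have ha0 : a ≠ 0 := by rintro rfl; exact n1 (by rw [h1]; rfl)
    have : (3 : ℤ) ∣ 3 ^ a := dvd_pow_self 3 ha0
    have tb : (2 : ℤ) ^ (b + 1) % 3 = 2 := by have := two15 (b + 1); omega
    omega
  have hb : b % 4 = 0 := by
    have h5 : (2 : ℤ) ^ (b + 1) % 5 = 2 := by omega
    have := two15 (b + 1)
    omega
  have ta : (3 : ℤ) ^ a % 5 = 4 := by omega
  obtain ⟨i, k0, hi, -, e0⟩ := shape (h.dvd 0)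
  have hk0 : k0 = 0 := by
    by_contra hk
    have : (3 : ℤ) ∣ 2 ^ i * 3 ^ k0 := (dvd_pow_self 3 hk).mul_left _
    rcases e0 with e0 | e0
    · exact h0 (e0 ▸ this)
    · exact h0 (e0 ▸ this.neg_right)
  subst hk0
  rw [pow_zero, mul_one] at e0
  have hb0 : b ≠ 0 := by
    rintro rfl
    obtain rfl : i = 0 := by omega
    omega
  have eq : (3 : ℤ) ^ a = 2 ^ (b + 1) + 1 + d 2 := by linarith
  have h1n : 1 ≤ |d 2| := Int.one_le_abs (by have := h.mod5 2; omega)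
  have hn3 : |d 2| ≤ |d 2| ^ 3 := le_self_pow₀ h1n (by norm_num)
  have hib : (2 : ℤ) ^ i ≤ 2 ^ b := pow_le_pow_right₀ (by norm_num) hi
  have pi : (0 : ℤ) < 2 ^ i := by positivity
  have hb1 : (2 : ℤ) ^ (b + 1) = 2 * 2 ^ b := by ring
  have hg : (2 : ℤ) ^ b ≤ 4 * |d 2| ^ 3 := by
    obtain ⟨t, ht, h4⟩ := gap3 h 2
    have : ∀ t : Fin 4, t ≠ 2 → t = 0 ∨ t = 1 ∨ t = 3 := by decide
    have h7 := abs_le.1 h4
    have h8 := neg_abs_le (d 2)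
    rcases this t ht with rfl | rfl | rfl
    · have := near e0 h3 (h.dvd 3)
      linarith
    · linarith
    · rcases e0 with e0 | e0 <;> linarith
  have s1 := sq_le h 1
  rw [h1, neg_sq] at s1
  rcases core10 ta hb hb0 (le_of_sq pa s1) (h.dvd 2) ((by norm_num : (3 : ℤ) ∣ 6).trans h2) eq hg with
    h5 | ⟨rfl, rfl, e⟩
  · exact Or.inl h5
  · exact Or.inr ⟨rfl, rfl, by rw [h1]; norm_num, e⟩

end CL.T35
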