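/-
Project T35: valuation arguments for the degrees `10, 11` and `64, 65`.
-/
import Cfsg.Agent.T35.Defs
import Cfsg.Agent.S0925
import Cfsg.Agent.Blk.RkProj
import Cfsg.Agent.Blk.TildeInt

set_option autoImplicit false

namespace CL.T35

open Cfsg Subgroup CL.Char
open CL.Ix2 (cc cl np L2 cc_mul_cl exists_central)

universe u

theorem q_pw {p : ℤ} (hp : Prime p) {i j : ℕ} {m n : ℤ} (h : p ^ (i + j + 1) ∣ m * n) :
    p ^ (i + 1) ∣ m ∨ p ^ (j + 1) ∣ n := by
  induction i generalizing m with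
  | zero =>
    by_cases e : p ∣ m
    exacts [Or.inl (by simpa using e), Or.inr (hp.pow_dvd_of_dvd_mul_left _ e (by simpa using h))]
  | succ i ih =>
    by_cases e : p ∣ m
    · obtain ⟨m, rfl⟩ := e
      rw [show i + 1 + j + 1 = i + j + 1 + 1 by omega, pow_succ', mul_assoc, mul_dvd_mul_iff_left hp.ne_zero] at h
      exact (ih h).imp_left fun e => pow_succ' p (i + 1) ▸ mul_dvd_mul_left p e
    · exact Or.inr ((pow_dvd_pow p (by omega)).trans (hp.pow_dvd_of_dvd_mul_left _ e h))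

variable {G : Type u} [Group G] [Fintype G] {X Y : G → ℤ}

theorem q_bd (h : IZ X) (g : G) : |X g| ≤ X 1 := by
  have h1 := h.isCharacter.norm_le g
  have h2 : ((charDegree fun g => (X g : ℂ) : ℕ) : ℤ) = X 1 := by exact_mod_cast h.cast_charDegree
  rw [Complex.norm_intCast] at h1
  rw [← h2]
  exact_mod_cast h1

theorem q_lt [IsSimpleGroup G] (h : IZ X) (h1 : 1 < X 1) {g : G} (hg : g ≠ 1) : X g < X 1 :=
  lt_of_le_of_ne ((le_abs_self _).trans (q_bd h g)) fun e => hg (mem_bot.1 ((h.charKer_eq_bot_of_simple fun e =>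
    h1.ne' (by exact_mod_cast congrFun e 1)).le (h.mem_charKer.2 (by exact_mod_cast e))))

theorem q_cong (h : IZ X) {p k : ℕ} (hp : p.Prime) {g x : G} (e : g ^ p ^ k = x ^ p ^ k) : X g ≡ X x [ZMOD p] :=
  isGenChar_intModEq h.isGeneralizedCharacter hp e rfl rfl

omit [Fintype G] in
theorem q_sing {x s : G} {m : ℕ} (hx : orderOf x = 3) (c : Commute x s) (hs : s ^ m = 1) (hm : (3 : ℕ).Coprime m) :
    3 ∣ orderOf (x * s) ∧ (x * s) ^ 3 ^ 1 = s ^ 3 ^ 1 := by
  constructor
  · have := orderOf_pow_dvd (x := x * s) m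
    rwa [c.mul_pow, hs, mul_one, Nat.Coprime.orderOf_pow (hx ▸ hm), hx] at this
  · rw [c.mul_pow, pow_one, ← hx, pow_orderOf_eq_one, one_mul]

theorem q_avg {H : Type*} [Group H] [Fintype H] {φ : H → ℂ} {c : ℂ} (h : ∀ s, s ≠ 1 → φ s = c) :
    Nat.card H * classInner φ (fun _ => 1) = φ 1 + (Nat.card H - 1) * c := by
  classical
  rw [classInner_one_right, mul_inv_cancel_left₀ natCard_ne_zero, ← Finset.add_sum_erase _ _ (Finset.mem_univ 1),
    Finset.sum_congr rfl fun s hs => h s (Finset.ne_of_mem_erase hs), Finset.sum_const,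
    Finset.card_erase_of_mem (Finset.mem_univ _), Finset.card_univ, Nat.card_eq_fintype_card, nsmul_eq_mul,
    Nat.cast_pred Fintype.card_pos]

omit [Fintype G] in
theorem q_cc {p b m : ℕ} (hp : p.Prime) (hc : Nat.card G = p ^ b * m) {w : G} (hw : ¬ p ∣ cl w) : (p : ℤ) ^ b ∣ cc w := by
  have : p ^ b ∣ cc w * cl w := by rw [cc_mul_cl, hc]; exact dvd_mul_right _ _
  exact_mod_cast (Nat.Coprime.pow_left b ((Nat.Prime.coprime_iff_not_dvd hp).2 hw)).dvd_of_dvd_mul_right this

theorem step11 : Step11.{u} := fun G _ _ _ X Y a _ T hI h10 hc => by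
  classical
  by_contra ha
  obtain ⟨a, rfl⟩ : ∃ a', a = a' + 12 := ⟨a - 12, by omega⟩
  have := Fact.mk Nat.prime_three
  obtain ⟨x, hx⟩ := exists_prime_orderOf_dvd_card' (G := G) 3 (by rw [hc]; exact ⟨2 ^ (a + 12) * 55, by ring⟩)
  obtain ⟨t, ht, hcl⟩ := exists_central (G := G) Nat.prime_two (by rw [hc]; exact ⟨2 ^ (a + 11) * 165, by ring⟩)
  have h1 : ¬ (2 : ℤ) ^ (4 + 1) ∣ cc x := fun e => by
    obtain ⟨K, hK⟩ := Sylow.exists_subgroup_card_pow_prime (G := centralizer ({x} : Set G)) 2 (n := 5)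
      (by exact_mod_cast e)
    let f := (centralizer ({x} : Set G)).subtype.comp K.subtype
    have g1 := (irrOne G).2.isGeneralizedCharacter
    have gY := T.hY.isGeneralizedCharacter
    obtain ⟨n, hn⟩ := ((((gY.sub (g1.nsmul 4)).mul (gY.add (g1.nsmul 2))).mul
      (gY.add (g1.nsmul 8))).comp f).exists_int_classInner (irrOne K).2.isGeneralizedCharacter
    have h2 := q_avg (c := 0) (φ := fun s : K => (((fun g => (Y g : ℂ)) - 4 • (irrOne G : G → ℂ)) *
      ((fun g => (Y g : ℂ)) + 2 • (irrOne G : G → ℂ)) * ((fun g => (Y g : ℂ)) + 8 • (irrOne G : G → ℂ))) (f s))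
      fun s hs => by
        have s1 : f s ^ 2 ^ 5 = 1 := by rw [← map_pow, ← hK, pow_card_eq_one', map_one]
        obtain ⟨a1, a2⟩ := q_sing hx (mem_centralizer_singleton_iff.1 s.1.2).symm s1 (by decide)
        have a3 := q_cong T.hY Nat.prime_three a2
        have a4 := q_cong T.hY Nat.prime_two (s1.trans (one_pow _).symm)
        have a5 := abs_le.1 (q_bd T.hY (f s))
        have a6 := q_lt T.hY T.one_lt (g := f s) fun e => hs (Subtype.ext (Subtype.ext e))
        rw [(T.sing _ a1).2] at a3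
        rw [h10] at a4 a5 a6
        have a7 : Y (f s) = 4 ∨ Y (f s) = -2 ∨ Y (f s) = -8 := by
          have a3 : 1 % 3 = Y (f s) % 3 := a3
          have a4 : Y (f s) % 2 = 10 % 2 := a4
          omega
        rcases a7 with e | e | e <;> simp [irrOne_apply, e]
    rw [show (irrOne K : K → ℂ) = fun _ => 1 from rfl] at hn
    rw [hn, hK] at h2
    simp only [map_one, Pi.mul_apply, Pi.sub_apply, Pi.add_apply, Pi.smul_apply, irrOne_apply, h10] at h2
    have h3 : 32 * n = 1296 := by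
      apply Int.cast_injective (α := ℂ)
      push_cast at h2 ⊢
      linear_combination h2
    omega
  obtain ⟨n, hn⟩ := hI x t t hx (by rw [ht]; decide) (by rw [ht]; decide)
  obtain ⟨k, hk⟩ := q_cc (b := a + 12) (m := 165) Nat.prime_two (by rw [hc]; ring) hcl
  have b1 := abs_le.1 (q_bd T.hY t)
  have b2 := q_lt T.hY T.one_lt (g := t) fun e => by simp [e] at ht
  rw [T.reg 1 (by simp), h10, hk, hc] at hn
  rw [h10] at b1 b2
  have h2 : (2 : ℤ) ^ (4 + 8 + 1) ∣ cc x * ((10 - Y t) * (10 - Y t)) := by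
    refine Int.prime_two.pow_dvd_of_dvd_mul_left _ (show ¬ (2 : ℤ) ∣ 165 by decide) ⟨165 * n * k * k * 2 ^ a, ?_⟩
    apply mul_left_cancel₀ (pow_ne_zero (a + 12) (two_ne_zero (α := ℤ)))
    push_cast at hn
    linear_combination -hn
  have h3 := (q_pw Int.prime_two (i := 4) (j := 4) ((q_pw Int.prime_two h2).resolve_left h1)).elim id id
  omega

theorem step13A : Step13A.{u} := fun G _ _ _ X Y a b _ T hI h64 hc hb g hg => by
  classical
  obtain ⟨b, rfl⟩ : ∃ b', b = b' + 2 := ⟨b - 2, by omega⟩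
  have := Fact.mk Nat.prime_three
  have p13 : Nat.Prime 13 := by norm_num
  have z13 : Prime (13 : ℤ) := Int.prime_iff_natAbs_prime.2 p13
  have h65 : X 1 = 65 := by rw [T.reg 1 (by simp), h64]; rfl
  have g1 : g ≠ 1 := fun e => by simp [e] at hg
  have g13 : g ^ 13 = 1 := hg ▸ pow_orderOf_eq_one g
  by_cases h3 : 3 ∣ cc g
  · obtain ⟨x, hx⟩ := exists_prime_orderOf_dvd_card' (G := centralizer ({g} : Set G)) 3 h3
    obtain ⟨a1, a2⟩ := q_sing ((orderOf_coe x).trans hx) (mem_centralizer_singleton_iff.1 x.2) g13 (by decide)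
    have a3 := q_cong T.hX Nat.prime_three a2
    have a4 := q_cong T.hX p13 (k := 1) (g13.trans (one_pow _).symm)
    have a5 := q_lt T.hX (by omega) g1
    rw [(T.sing _ a1).1] at a3
    rw [h65] at a4 a5
    obtain ⟨n, hn⟩ := (T.hX.isCharacter.comp (zpowers g).subtype).exists_nat_classInner (irrOne _).2.isCharacter
    have h2 := q_avg (c := X g) (φ := fun s : zpowers g => (X ((zpowers g).subtype s) : ℂ)) fun s hs => by
      obtain ⟨m, e⟩ := mem_powers_iff_mem_zpowers.2 s.2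
      refine (congrArg (fun y => (X y : ℂ)) e.symm).trans (genChar_pow_eq_of_rat T.hX.isGeneralizedCharacter
        (q := X g) (by simp) (hg ▸ ((Nat.Prime.coprime_iff_not_dvd p13).2 fun d => hs (Subtype.ext ?_)).symm))
      exact e.symm.trans (orderOf_dvd_iff_pow_eq_one.1 (hg ▸ d))
    rw [coe_irrOne] at hn
    rw [hn, Nat.card_zpowers, hg, map_one, h65] at h2
    have h4 : 13 * (n : ℤ) = 65 + 12 * X g := by
      apply Int.cast_injective (α := ℂ)
      push_cast at h2 ⊢
      linear_combination h2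
    have a3 : -1 % 3 = X g % 3 := a3
    have a4 : X g % 13 = 65 % 13 := a4
    omega
  obtain ⟨x, hx⟩ := exists_prime_orderOf_dvd_card' (G := G) 3 (by rw [hc]; exact ⟨2 ^ a * 5 * 13 ^ (b + 2), by ring⟩)
  have xx := (T.sing x hx.symm.dvd).1
  obtain ⟨k, hk⟩ : 65 ∣ cl x := dvd_of_isIntegral_div (by decide) (by
    have := (isIrr_isIntegral_central T.hX x).neg
    rw [xx, h65] at this
    convert this using 1
    simp [cl, neg_div])
  have nd : ¬ (13 : ℤ) ∣ 2 ^ a * 15 := fun e => (z13.dvd_or_dvd e).elim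
    (fun e => absurd (z13.dvd_of_dvd_pow e) (by decide)) (by decide)
  have h1 : ¬ 13 ∣ k := fun ⟨k', e⟩ => by
    obtain ⟨w, hw, hcl⟩ := exists_central (G := G) p13 (by rw [hc]; exact ⟨2 ^ a * 15 * 13 ^ (b + 1), by ring⟩)
    obtain ⟨n, hn⟩ := hI x w w hx (by rw [hw]; decide) (by rw [hw]; decide)
    obtain ⟨l, hl⟩ := q_cc (b := b + 2) (m := 2 ^ a * 15) p13 (by rw [hc]; ring) hcl
    have b1 := abs_le.1 (q_bd T.hY w)
    have b2 := q_lt T.hY T.one_lt (g := w) fun e => by simp [e] at hw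
    rw [h65, h64, hl, hc] at hn
    rw [h64] at b1 b2
    have h2 : (13 : ℤ) ^ (b + 2 + 1) ∣ cc x * ((64 - Y w) * (64 - Y w)) := by
      refine z13.pow_dvd_of_dvd_mul_left _ nd ⟨960 * n * l * l, ?_⟩
      apply mul_left_cancel₀ (pow_ne_zero (b + 2) z13.ne_zero)
      push_cast at hn
      linear_combination -hn
    obtain ⟨r, hr⟩ := (q_pw z13 h2).resolve_right fun e => by
      have := (q_pw z13 (i := 1) (j := 1) e).elim id id
      omega
    have h4 : (cc x : ℤ) * cl x = Nat.card G := by exact_mod_cast cc_mul_cl x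
    rw [hr, hk, e, hc] at h4
    refine nd ⟨5 * r * k', mul_left_cancel₀ (pow_ne_zero (b + 2) z13.ne_zero) ?_⟩
    push_cast at h4
    linear_combination -h4
  obtain ⟨M, hM⟩ := CL.Blk.exists_isPModular p13
  let χ : IrrCharacter G := ⟨_, T.hX⟩
  let ψ : IrrCharacter G := ⟨_, T.hY⟩
  have h2 : χ ∉ principalBlock M G := fun e => by
    have h4 := e x
    have h5 : centralChar (fun _ : G => (1 : ℂ)) x - centralChar (χ : G → ℂ) x = (66 * k : ℕ) := by
      have e : ((centralizer ({x} : Set G)).index : ℂ) = 65 * k := by exact_mod_cast hk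
      simp only [centralChar, χ, xx, h65, e]
      push_cast
      ring
    rw [h5, CL.Blk.memLocalIdeal_natCast_iff hM] at h4
    exact h1 ((p13.dvd_mul.1 h4).resolve_left (by decide))
  have := Fact.mk p13
  have pg : IsPPart 13 g g := ⟨1, mul_one g, Commute.one_right g, ⟨1, hg⟩, by simp⟩
  have h4 := (Cfsg.Agent.S0925.result 13 M hM).1 ((irrOne G : G → ℂ) - (χ : G → ℂ) + (ψ : G → ℂ))
    (((irrOne G).2.isClassFunction.sub χ.2.isClassFunction).add ψ.2.isClassFunction) g ⟨1, hg⟩ (by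
      rintro _ z ⟨y, rfl, c, -⟩ hz
      obtain ⟨d, rfl⟩ := isConj_iff.1 hz
      have h5 : ¬ 3 ∣ orderOf (d * g * d⁻¹ * y) := fun e => h3 (e.trans (by
        have m : d⁻¹ * (d * g * d⁻¹ * y) * d⁻¹⁻¹ ∈ centralizer ({g} : Set G) := mem_centralizer_singleton_iff.2 (by
          calc _ = d⁻¹ * (d * g * d⁻¹ * (y * (d * g * d⁻¹))) * d := by group
            _ = _ := by rw [← c.eq]; group)
        exact (MulAut.conj d⁻¹).orderOf_eq _ ▸ (centralizer ({g} : Set G)).orderOf_dvd_natCard m))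
      simp only [Pi.add_apply, Pi.sub_apply, irrOne_apply, χ, ψ, T.reg _ h5]
      push_cast
      ring) _ ⟨irrOne G, rfl⟩ g g pg (IsConj.refl g)
  have h5 : irrOne G ∈ principalBlock M G := fun y => by
    rw [coe_irrOne, sub_self]; exact_mod_cast (CL.Blk.memLocalIdeal_natCast_iff hM 0).2 (dvd_zero _)
  change blockPart (principalBlock M G) _ g = 0 at h4
  rw [CL.Blk.Rk.blockPart_add, CL.Blk.Rk.blockPart_sub, CL.Blk.Rk.blockPart_irr_of_mem h5,
    CL.Blk.Rk.blockPart_irr_of_notMem h2] at h4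
  by_cases h6 : ψ ∈ principalBlock M G
  · rw [CL.Blk.Rk.blockPart_irr_of_mem h6] at h4
    have h7 : 1 + Y g = 0 := by
      apply Int.cast_injective (α := ℂ)
      simpa [irrOne_apply, ψ] using h4
    exact Or.inl (by rw [T.reg g (by rw [hg]; decide)]; omega)
  · rw [CL.Blk.Rk.blockPart_irr_of_notMem h6] at h4
    simp [irrOne_apply] at h4

end CL.T35
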