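/-
Project T35: the case of degrees 64 and 65.
-/
import Cfsg.Agent.T35.Defs
import Cfsg.Agent.Inv.POPrinc
import Cfsg.Agent.Inv.POSimple
import Cfsg.Agent.Blk.PrincCrit
import Cfsg.Agent.Blk.DefectNum
import Cfsg.Agent.Char.Gallagher

set_option autoImplicit false

namespace CL.T35

open Cfsg Subgroup CL.Char CL.Blk CL.Inv.PO

universe u

/-- the average of an integer valued character of degree 65 over a subgroup of order 13 of an abelian group -/
theorem q13_avg {Q : Type u} [CommGroup Q] [Finite Q] {X : Q → ℤ} (hX : IsCharacter Q fun g => (X g : ℂ))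
    (h1 : X 1 = 65) {h y : Q} (hh : orderOf h = 13) (hy : y ^ 13 ^ 2 = 1) {c t : ℤ} (hc : 65 + 12 * X h = 13 * c)
    (ht : ∀ n ∈ zpowers h, ∃ k : ℤ, X (n * y) = 13 * k ∧ t ∣ k) :
    ∃ s : ℤ, s ≡ c [ZMOD 13] ∧ s ≤ c ∧ ((∀ n ∈ zpowers h, 0 ≤ X (n * y)) → 0 ≤ s) ∧ t ∣ s ∧
      ∀ k : ℤ, (∀ n ∈ zpowers h, X (n * y) = 13 * k) → s = 13 * k := by
  classical
  have := Fintype.ofFinite (zpowers h)
  have hcard : Nat.card (zpowers h) = 13 := by rw [Nat.card_zpowers, hh]
  have hcard' : Fintype.card (zpowers h) = 13 := by rw [← Nat.card_eq_fintype_card, hcard]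
  have hθ := isCharacter_cosetAvg (N := zpowers h) hX
  have hval : ∀ n : zpowers h, n ≠ 1 → X n = X h := by
    rintro ⟨n, hn⟩ hn1
    obtain ⟨m, rfl⟩ := (mem_powers_iff_mem_zpowers.2 hn)
    have hm : m.Coprime (orderOf h) := by
      rw [hh, Nat.coprime_comm, Nat.Prime.coprime_iff_not_dvd (by norm_num)]
      intro hd
      exact hn1 (Subtype.ext (orderOf_dvd_iff_pow_eq_one.1 (hh ▸ hd)))
    have := genChar_pow_eq_of_rat hX.isGeneralizedCharacter (g := h) (q := X h) (by simp) hm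
    exact_mod_cast this
  have hone : cosetAvg (zpowers h) (fun g => (X g : ℂ)) 1 = c := by
    rw [cosetAvg_apply, hcard, ← Finset.add_sum_erase _ _ (Finset.mem_univ (1 : zpowers h)),
      Finset.sum_congr rfl (g := fun _ => (X h : ℂ)) fun n hn => by
        rw [mul_one, hval n (Finset.ne_of_mem_erase hn)]]
    rw [Finset.sum_const, Finset.card_erase_of_mem (Finset.mem_univ _), Finset.card_univ, hcard']
    have : (65 : ℂ) + 12 * X h = 13 * c := by exact_mod_cast hc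
    simp only [OneMemClass.coe_one, mul_one, h1, nsmul_eq_mul]
    push_cast
    linear_combination (1 / 13 : ℂ) * this
  choose k hk using fun n : zpowers h => ht n n.2
  have hy' : cosetAvg (zpowers h) (fun g => (X g : ℂ)) y = ((∑ n, k n : ℤ) : ℂ) := by
    rw [cosetAvg_apply, hcard, Finset.mul_sum]
    push_cast
    refine Finset.sum_congr rfl fun n _ => ?_
    rw [(hk n).1]
    push_cast
    ring
  refine ⟨∑ n, k n, isGenChar_intModEq_one hθ.isGeneralizedCharacter (p := 13) (by norm_num) hy hy' hone, ?_,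
    fun h0 => Finset.sum_nonneg fun n _ => by have := (hk n).1; have := h0 n n.2; omega,
    Finset.dvd_sum fun n _ => (hk n).2, fun j hj => ?_⟩
  · have h2 := isChar_norm_le hθ y
    obtain ⟨m, hm⟩ := hθ.exists_nat_one
    have hcm : c = m := by exact_mod_cast hone.symm.trans hm
    rw [hy', hone, Complex.norm_intCast, Complex.norm_intCast, hcm] at h2
    have h3 : |∑ n, k n| ≤ |(m : ℤ)| := by exact_mod_cast h2
    rw [Nat.abs_cast] at h3
    exact hcm ▸ (le_abs_self _).trans h3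
  · rw [Finset.sum_congr rfl (g := fun _ => j) fun n _ => by have := (hk n).1; have := hj n n.2; omega]
    simp [hcard']

theorem step13B : Step13B.{u} := by
  intro G _ _ X hX h1 hv hd
  have : Fact (Nat.Prime 13) := ⟨by norm_num⟩
  obtain ⟨Q, hQ⟩ := Sylow.exists_subgroup_card_pow_prime 13 hd
  let _ : CommGroup Q := IsPGroup.commGroupOfCardEqPrimeSq hQ
  have hXQ : IsCharacter Q fun g : Q => (X g : ℂ) := hX.restrict Q
  have hpow : ∀ y : Q, y ^ 13 ^ 2 = 1 := fun y => by rw [← hQ]; exact pow_card_eq_one'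
  have hvQ : ∀ g : Q, orderOf g = 13 → X g = 0 ∨ X g = 26 := fun g hg => hv g (by rw [Subgroup.orderOf_coe, hg])
  by_cases hex : ∃ g : Q, g ^ 13 ≠ 1
  · obtain ⟨g, hg⟩ := hex
    have hh : orderOf (g ^ 13) = 13 := orderOf_eq_prime (by rw [← pow_mul]; exact hpow g) hg
    have hog : orderOf g = 13 ^ 2 := orderOf_eq_prime_pow (n := 1) (by simpa using hg) (hpow g)
    have hconst : ∀ n ∈ zpowers (g ^ 13), X ((n * g : Q) : G) = X g := by
      intro n hn
      obtain ⟨m, rfl⟩ := (mem_powers_iff_mem_zpowers.2 hn)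
      have hm : (13 * m + 1).Coprime (orderOf g) := by
        rw [hog]
        refine Nat.Coprime.pow_right _ ?_
        rw [Nat.coprime_comm, Nat.Prime.coprime_iff_not_dvd (by norm_num)]
        omega
      have := genChar_pow_eq_of_rat hXQ.isGeneralizedCharacter (g := g) (q := X g) (by simp) hm
      rw [pow_succ, pow_mul] at this
      exact_mod_cast this
    have hmod := isGenChar_intModEq_one hXQ.isGeneralizedCharacter (p := 13) (by norm_num) (hpow g)
      (a := X g) (b := 65) rfl (by simp [h1])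
    obtain ⟨k, hk⟩ : ∃ k : ℤ, X g = 13 * k := ⟨X g / 13, by unfold Int.ModEq at hmod; omega⟩
    have key := fun (c : ℤ) (hc : 65 + 12 * X ((g ^ 13 : Q) : G) = 13 * c) =>
      q13_avg (X := fun g : Q => X g) hXQ h1 hh (hpow g) (t := 1) hc
        fun n hn => ⟨k, (hconst n hn).trans hk, one_dvd _⟩
    rcases hvQ _ hh with e | e
    · obtain ⟨s, hs, -, -, -, h5⟩ := key 5 (by rw [e]; rfl)
      have := h5 k fun n hn => (hconst n hn).trans hk
      unfold Int.ModEq at hs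
      omega
    · obtain ⟨s, hs, -, -, -, h5⟩ := key 29 (by rw [e]; rfl)
      have := h5 k fun n hn => (hconst n hn).trans hk
      unfold Int.ModEq at hs
      omega
  · push Not at hex
    have hord : ∀ g : Q, g ≠ 1 → orderOf g = 13 := fun g hg => orderOf_eq_prime (hex g) hg
    have hout : ∀ h : Q, h ≠ 1 → ∃ y : Q, ∀ n ∈ zpowers h, n * y ≠ 1 := by
      intro h hh
      have hne : zpowers h ≠ ⊤ := fun e => by
        have := Nat.card_zpowers h
        rw [e, card_top, hQ, hord h hh] at this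
        omega
      obtain ⟨y, hy⟩ : ∃ y, y ∉ zpowers h := by
        by_contra hc
        push Not at hc
        exact hne ((Subgroup.eq_top_iff' _).2 hc)
      exact ⟨y, fun n hn e => hy (by rw [eq_inv_of_mul_eq_one_right e]; exact inv_mem hn)⟩
    by_cases h0 : ∃ h : Q, h ≠ 1 ∧ X h = 0
    · obtain ⟨h, hh, e⟩ := h0
      obtain ⟨y, hy⟩ := hout h hh
      obtain ⟨s, hs, h2, h3, h4, -⟩ := q13_avg (X := fun g : Q => X g) hXQ h1 (hord h hh) (hpow y) (t := 2) (c := 5)
        (by rw [e]; rfl) fun n hn => by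
          rcases hvQ _ (hord _ (hy n hn)) with e | e
          · exact ⟨0, e, dvd_zero _⟩
          · exact ⟨2, e, dvd_rfl⟩
      have := h3 fun n hn => by rcases hvQ _ (hord _ (hy n hn)) with e | e <;> omega
      unfold Int.ModEq at hs
      omega
    · push Not at h0
      have h26 : ∀ g : Q, g ≠ 1 → X g = 26 := fun g hg => (hvQ g (hord g hg)).resolve_left (h0 g hg)
      have : Nontrivial Q := Finite.one_lt_card_iff_nontrivial.1 (by rw [hQ]; norm_num)
      obtain ⟨h, hh⟩ := exists_ne (1 : Q)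
      obtain ⟨y, hy⟩ := hout h hh
      obtain ⟨s, hs, -, -, -, h5⟩ := q13_avg (X := fun g : Q => X g) hXQ h1 (hord h hh) (hpow y) (t := 1) (c := 29)
        (by rw [h26 h hh]; rfl) fun n hn => ⟨2, h26 _ (hy n hn), one_dvd _⟩
      have := h5 2 fun n hn => h26 _ (hy n hn)
      unfold Int.ModEq at hs
      omega

theorem q13_odd {a : ℕ} {d : ℤ} (hd : d.natAbs ∣ 2 ^ a * 3 * 5 * 13) (h2 : d % 2 = 1) : d.natAbs ∣ 195 := by
  have h : d.natAbs.Coprime (2 ^ a) := Nat.Coprime.pow_right _ (by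
    rw [Nat.coprime_comm, Nat.Prime.coprime_iff_not_dvd Nat.prime_two]; omega)
  exact h.dvd_of_dvd_mul_left (by rwa [mul_assoc, mul_assoc] at hd)

theorem q13_dvd {n : ℕ} (h : n ∣ 195) : n = 1 ∨ n = 3 ∨ n = 13 ∨ n = 39 ∨ n % 5 = 0 := by
  have := Nat.le_of_dvd (by norm_num) h
  interval_cases n <;> simp_all

theorem q13_val {a : ℕ} {d : ℤ} (h5 : d % 5 = 1) (h1 : d.natAbs ≠ 1) (hd : d.natAbs ∣ 2 ^ a * 3 * 5 * 13) :
    (d % 2 = 1 → d = -39) ∧ (d % 4 = 2 → d = 6 ∨ d = 26) ∧ d ≠ 76 := by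
  refine ⟨fun h => ?_, fun h => ?_, fun h => ?_⟩
  · have := q13_dvd (q13_odd hd h)
    omega
  · have h3 : (d / 2).natAbs ∣ d.natAbs := Int.natAbs_dvd_natAbs.2 ⟨2, by omega⟩
    have := q13_dvd (q13_odd (h3.trans hd) (by omega))
    omega
  · subst h
    have h19 : 19 ∣ 2 ^ a * 3 * 5 * 13 := (by norm_num : 19 ∣ (76 : ℤ).natAbs).trans hd
    rw [mul_assoc, mul_assoc] at h19
    have := (Nat.Coprime.pow_right a (by norm_num : Nat.Coprime 19 2)).dvd_of_dvd_mul_left h19
    omega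

theorem q13_case {x y z : ℤ} (hx : (x % 2 = 1 → x = -39) ∧ (x % 4 = 2 → x = 6 ∨ x = 26) ∧ x ≠ 76)
    (hy : (y % 2 = 1 → y = -39) ∧ (y % 4 = 2 → y = 6 ∨ y = 26) ∧ y ≠ 76)
    (hz : (z % 2 = 1 → z = -39) ∧ (z % 4 = 2 → z = 6 ∨ z = 26) ∧ z ≠ 76) (h : x + y + z = 63) :
    (x.natAbs = 6 ∧ y.natAbs ≠ 6 ∧ z.natAbs ≠ 6) ∨ (y.natAbs = 6 ∧ x.natAbs ≠ 6 ∧ z.natAbs ≠ 6) ∨
      (z.natAbs = 6 ∧ x.natAbs ≠ 6 ∧ y.natAbs ≠ 6) := by
  have key : ∀ {y z : ℤ}, (y % 4 = 2 → y = 6 ∨ y = 26) → y ≠ 76 → (z % 4 = 2 → z = 6 ∨ z = 26) → z ≠ 76 →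
      y % 2 = 0 → y + z = 102 → (y = 6 ∧ z = 96) ∨ (y = 96 ∧ z = 6) := by
    intro y z h1 h2 h3 h4 h5 h6
    by_cases e : y % 4 = 2
    · have := h1 e
      omega
    · have := h3 (by omega)
      omega
  obtain ⟨a1, b1, c1⟩ := hx
  obtain ⟨a2, b2, c2⟩ := hy
  obtain ⟨a3, b3, c3⟩ := hz
  by_cases e1 : x % 2 = 1
  · obtain rfl := a1 e1
    by_cases e2 : y % 2 = 1
    · obtain rfl := a2 e2
      have := a3 (by omega)
      omega
    · rcases key b2 c2 b3 c3 (by omega) (by omega) with ⟨rfl, rfl⟩ | ⟨rfl, rfl⟩ <;> simp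
  · by_cases e2 : y % 2 = 1
    · obtain rfl := a2 e2
      rcases key b1 c1 b3 c3 (by omega) (by omega) with ⟨rfl, rfl⟩ | ⟨rfl, rfl⟩ <;> simp
    · obtain rfl := a3 (by omega)
      rcases key b1 c1 b2 c2 (by omega) (by omega) with ⟨rfl, rfl⟩ | ⟨rfl, rfl⟩ <;> simp

/-- no simple group of order divisible by 13 has a Galois invariant character of degree 6 -/
theorem q13_six {G : Type u} [Group G] [Finite G] [IsSimpleGroup G] (h13 : 13 ∣ Nat.card G) {χ : IrrCharacter G}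
    (h6 : charDegree (χ : G → ℂ) = 6) (hσ : ∀ σ : ℂ ≃+* ℂ, galIrr σ χ = χ) : False := by
  have : Fact (Nat.Prime 13) := ⟨by norm_num⟩
  obtain ⟨u, hu⟩ := exists_prime_orderOf_dvd_card' 13 h13
  have h1 : (χ : G → ℂ) 1 = ((6 : ℤ) : ℂ) := by rw [← irr_natCast_charDegree, h6]; norm_num
  obtain ⟨z, hz⟩ := exists_int_of_forall_ringEquiv (irr_isIntegral χ u) fun σ => by
    rw [← galIrr_apply, hσ]
  have hm := isGenChar_intModEq_one χ.2.isGeneralizedCharacter (p := 13) (k := 1) (by norm_num)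
    (by rw [pow_one, ← hu, pow_orderOf_eq_one]) hz h1
  have hle := isChar_norm_le χ.2.isCharacter u
  rw [hz, h1, Complex.norm_intCast, Complex.norm_intCast] at hle
  have h3 : |z| ≤ |(6 : ℤ)| := by exact_mod_cast hle
  have hz6 : z = 6 := by
    rw [abs_of_pos (by norm_num : (0 : ℤ) < 6), abs_le] at h3
    unfold Int.ModEq at hm
    omega
  have hk : u ∈ charKer (χ : G → ℂ) := χ.2.isCharacter.mem_charKer.2 (by rw [hz, h1, hz6])
  rw [χ.2.charKer_eq_bot_of_simple (fun e => by rw [e] at h1; norm_num at h1), mem_bot] at hk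
  rw [hk, orderOf_one] at hu
  omega

theorem step13C : Step13C.{u} := by
  classical
  intro G _ _ _ X Y a hG hT hY hcard
  have : Fact (Nat.Prime 5) := ⟨by norm_num⟩
  have hX1 : X 1 = 65 := by rw [hT.reg 1 (by simp), hY]; rfl
  have h5 : 5 ∣ Nat.card G := by rw [hcard]; exact ⟨2 ^ a * 3 * 13, by ring⟩
  have hcop : ∀ {q : ℕ}, q.Coprime 2 → q ∣ Nat.card G → q ∣ 195 := fun hq hd => by
    rw [hcard, mul_assoc, mul_assoc] at hd
    exact (hq.pow_right a).dvd_of_dvd_mul_left hd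
  obtain ⟨x, ⟨K⟩⟩ := exists_ctx_of_dvd (p := 5) h5 fun h => by
    have := hcop (by norm_num) h
    omega
  obtain ⟨M, hM⟩ := exists_isPModular' (p := 5) (by norm_num)
  let cX : IrrCharacter G := ⟨fun g => (X g : ℂ), hT.hX⟩
  let cY : IrrCharacter G := ⟨fun g => (Y g : ℂ), hT.hY⟩
  have hdX : charDegree (cX : G → ℂ) = 65 := charDegree_eq_of_one_eq (by simp [cX, hX1])
  have hdY : charDegree (cY : G → ℂ) = 64 := charDegree_eq_of_one_eq (by simp [cY, hY])
  have hd1 : charDegree (irrOne G : G → ℂ) = 1 := by rw [coe_irrOne, charDegree_const_one]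
  have hYs : ∀ g : G, 5 ∣ orderOf g → Y g = -1 := fun g hg => by
    have h0 := irr_apply_eq_zero_of_defect_zero (p := 5) (χ := cX) (by norm_num) (by
      rw [K.factorization_card, hdX, show 65 = 5 * 13 by norm_num,
        Nat.factorization_eq_of_coprime_left (by norm_num) (by simp),
        Nat.prime_five.factorization_self]) hg
    have h0' : X g = 0 := by simpa [cX] using h0
    by_cases h3 : 3 ∣ orderOf g
    · have := (hT.sing g h3).1
      omega
    · have := hT.reg g h3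
      omega
  have hin : ∀ l : (ZMod 5)ˣ, classInner (cY : G → ℂ) (K.A (irrOne _) l) = 1 := fun l => by
    have h1 := K.inner_one_A l
    rw [← neg_eq_iff_eq_neg] at h1
    rw [← h1]
    unfold classInner
    rw [← mul_neg, ← Finset.sum_neg_distrib]
    congr 1
    refine Finset.sum_congr rfl fun g _ => ?_
    by_cases hg : 5 ∣ orderOf g
    · simp [cY, hYs g hg]
    · simp [K.A_reg _ _ hg]
  have hcu : Nat.card (ZMod 5)ˣ = 4 := by rw [Nat.card_eq_fintype_card, ZMod.card_units]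
  have hY1 : cY ≠ irrOne G := fun e => by rw [e, hd1] at hdY; omega
  obtain ⟨D, hD1, hDY⟩ : ∃ D : Data K (irrOne _) (principalBlock M G), irrOne G ∈ D.X ∧ cY ∈ D.X := by
    obtain ⟨D, hD1, -⟩ := K.exists_data_principal hM
    have hB : cY ∈ principalBlock M G := by
      by_contra h
      have := D.inner_notMem _ h 1
      rw [hin] at this
      exact one_ne_zero this
    rcases (D.mem_iff _).1 hB with h | ⟨k, hk⟩
    · exact ⟨D, hD1, h⟩
    have hE : K.E (irrOne _) = ⊤ := by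
      rw [Subgroup.eq_top_iff']
      intro v
      have := D.inner_μ k (k * v)
      rw [hk, hin, inv_mul_cancel_left] at this
      by_contra h
      simp [h] at this
    have h4 : D.X.card = 4 := by rw [D.card_X, hE, card_top, hcu]
    obtain ⟨χ₀, h₀⟩ : (D.X.erase (irrOne G)).Nonempty := by
      rw [← Finset.card_pos, Finset.card_erase_of_mem hD1, h4]; norm_num
    refine ⟨D.swap hE (Finset.mem_of_mem_erase h₀), ?_, ?_⟩
    · exact Finset.mem_insert_of_mem (Finset.mem_erase.2 ⟨(Finset.ne_of_mem_erase h₀).symm, hD1⟩)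
    · rw [← hk, (D.μ_eq k 1).2 (hE ▸ mem_top _)]
      exact Finset.mem_insert_self _ _
  have hs1 : D.s (irrOne G) = 1 := by
    have := D.inner_X _ hD1 1
    rw [K.inner_one_A, neg_inj] at this
    exact_mod_cast this.symm
  have hsY : D.s cY = -1 := by
    have := D.inner_X _ hDY 1
    rw [hin, ← neg_eq_iff_eq_neg] at this
    exact_mod_cast this.symm
  have hY' : cY ∈ D.X.erase (irrOne G) := Finset.mem_erase.2 ⟨hY1, hDY⟩
  have hrel := D.deg_rel 1
  rw [← Finset.add_sum_erase _ _ hD1, ← Finset.add_sum_erase _ _ hY', hs1, hsY, hd1, hdY] at hrel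
  have hcR : ((D.X.erase (irrOne G)).erase cY).card + 2 = K.f := by
    rw [← D.card_X_one, ← Finset.card_erase_add_one hD1, ← Finset.card_erase_add_one hY']
  have hf : K.f ∣ 4 := K.f_dvd
  have hf' : K.f = 2 ∨ K.f = 4 := by
    have := Nat.le_of_dvd (by norm_num) hf
    have h2 : 2 ≤ K.f := by omega
    generalize K.f = f at *
    interval_cases f <;> simp_all
  have hdvd : ∀ χ : IrrCharacter G, charDegree (χ : G → ℂ) ∣ 2 ^ a * 3 * 5 * 13 := fun χ =>
    hcard ▸ irr_charDegree_dvd_card χ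
  rcases hf' with hf2 | hf4
  · have h0 : (D.X.erase (irrOne G)).erase cY = ∅ := Finset.card_eq_zero.1 (by omega)
    rw [h0, Finset.sum_empty] at hrel
    have h63 : charDegree (D.μ 1 : G → ℂ) = 63 := by rcases D.hε with e | e <;> rw [e] at hrel <;> omega
    have := hcop (q := 63) (by norm_num) (h63 ▸ irr_charDegree_dvd_card _)
    omega
  obtain ⟨χ₁, χ₂, hne, hR⟩ := Finset.card_eq_two.1 (show ((D.X.erase (irrOne G)).erase cY).card = 2 by omega)
  rw [hR, Finset.sum_pair hne] at hrel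
  have hE : K.E (irrOne _) = ⊤ := by
    apply Subgroup.eq_top_of_card_eq
    rw [K.card_E_one, hf4, hcu]
  have hm₁ : χ₁ ∈ (D.X.erase (irrOne G)).erase cY := by rw [hR]; simp
  have hm₂ : χ₂ ∈ (D.X.erase (irrOne G)).erase cY := by rw [hR]; simp
  have hB : ∀ ψ ∈ principalBlock M G, ψ = irrOne G ∨ ψ = cY ∨ ψ = χ₁ ∨ ψ = χ₂ ∨ ψ = D.μ 1 := by
    intro ψ hψ
    rcases (D.mem_iff _).1 hψ with h | ⟨k, rfl⟩
    · by_cases e1 : ψ = irrOne G
      · exact Or.inl e1
      by_cases e2 : ψ = cY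
      · exact Or.inr (Or.inl e2)
      have : ψ ∈ (D.X.erase (irrOne G)).erase cY := Finset.mem_erase.2 ⟨e2, Finset.mem_erase.2 ⟨e1, h⟩⟩
      rw [hR, Finset.mem_insert, Finset.mem_singleton] at this
      tauto
    · exact Or.inr (Or.inr (Or.inr (Or.inr ((D.μ_eq k 1).2 (hE ▸ mem_top _)))))
  have hval : ∀ χ ∈ principalBlock M G, χ ≠ irrOne G → ∀ s : ℤ, s = 1 ∨ s = -1 →
      (charDegree (χ : G → ℂ) : ℤ) ≡ s [ZMOD 5] → ∀ d : ℤ, d = s * charDegree (χ : G → ℂ) →
      d.natAbs = charDegree (χ : G → ℂ) ∧ (d % 2 = 1 → d = -39) ∧ (d % 4 = 2 → d = 6 ∨ d = 26) ∧ d ≠ 76 := by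
    intro χ hχ h1 s hs hm d hd
    have hn : d.natAbs = charDegree (χ : G → ℂ) := by rcases hs with rfl | rfl <;> simp [hd]
    refine ⟨hn, q13_val (a := a) ?_ ?_ (hn ▸ hdvd χ)⟩
    · unfold Int.ModEq at hm
      rcases hs with rfl | rfl <;> omega
    · rw [hn]
      exact degree_ne_pow_of_principal hG hM h5 hχ h1 0
  have hX : ∀ χ ∈ (D.X.erase (irrOne G)).erase cY, χ ∈ D.X := fun χ h =>
    Finset.mem_of_mem_erase (Finset.mem_of_mem_erase h)
  have hX' : ∀ χ ∈ (D.X.erase (irrOne G)).erase cY, χ ≠ irrOne G := fun χ h =>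
    Finset.ne_of_mem_erase (Finset.mem_of_mem_erase h)
  have v₁ := hval χ₁ (D.mem_of_mem_X (hX _ hm₁)) (hX' _ hm₁) _ (D.hs _ (hX _ hm₁)) (D.deg_X_one (hX _ hm₁)) _ rfl
  have v₂ := hval χ₂ (D.mem_of_mem_X (hX _ hm₂)) (hX' _ hm₂) _ (D.hs _ (hX _ hm₂)) (D.deg_X_one (hX _ hm₂)) _ rfl
  have v₃ := hval (D.μ 1) (D.μ_mem 1) (fun e => D.μ_notMem 1 (e ▸ hD1)) (-D.ε)
    (by rcases D.hε with e | e <;> simp [e]) (by
      have := D.deg_μ_one 1
      rw [hf4] at this
      unfold Int.ModEq at this ⊢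
      push_cast at this
      omega) _ rfl
  rw [neg_mul] at v₃
  have h13 : 13 ∣ Nat.card G := by rw [hcard]; exact dvd_mul_left _ _
  have fin : ∀ χ ∈ principalBlock M G, charDegree (χ : G → ℂ) = 6 →
      (∀ ψ ∈ principalBlock M G, charDegree (ψ : G → ℂ) = 6 → ψ = χ) → False := fun χ hχ h6 hu =>
    q13_six h13 h6 fun σ => hu _ ((galIrr_mem_principal_iff hM σ).2 hχ) (charDegree_eq_of_one_eq (by
      rw [galIrr_apply, ← irr_natCast_charDegree, h6, map_natCast]))
  generalize D.s χ₁ * (charDegree (χ₁ : G → ℂ) : ℤ) = d₁ at hrel v₁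
  generalize D.s χ₂ * (charDegree (χ₂ : G → ℂ) : ℤ) = d₂ at hrel v₂
  generalize D.ε * (charDegree (D.μ 1 : G → ℂ) : ℤ) = d₃ at hrel v₃
  have hcase := q13_case v₁.2 v₂.2 v₃.2 (by push_cast at hrel; linarith)
  have n₁ := v₁.1
  have n₂ := v₂.1
  have n₃ := v₃.1
  clear v₁ v₂ v₃ hval
  rcases hcase with ⟨e1, e2, e3⟩ | ⟨e1, e2, e3⟩ | ⟨e1, e2, e3⟩
  · refine fin χ₁ (D.mem_of_mem_X (hX _ hm₁)) (by omega) fun ψ hψ h6 => ?_
    rcases hB ψ hψ with e | e | e | e | e <;> first | exact e | (rw [e] at h6; omega)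
  · refine fin χ₂ (D.mem_of_mem_X (hX _ hm₂)) (by omega) fun ψ hψ h6 => ?_
    rcases hB ψ hψ with e | e | e | e | e <;> first | exact e | (rw [e] at h6; omega)
  · refine fin (D.μ 1) (D.μ_mem 1) (by omega) fun ψ hψ h6 => ?_
    rcases hB ψ hψ with e | e | e | e | e <;> first | exact e | (rw [e] at h6; omega)

end CL.T35
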