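/-
Project T35, job T: the 45 involutions are 3-transpositions.
-/
import Cfsg.Agent.T35.Defs
import Cfsg.Agent.Char.BrauerTI

set_option autoImplicit false
set_option linter.unusedSectionVars false

namespace CL.T35

open Cfsg Subgroup CL.Char
open CL.Ix2 (cc cl np L2)

universe u

variable {G : Type u} [Group G]

theorem t_sum_zpowers [Finite G] (g : G) [Fintype (zpowers g)] (f : G → ℂ) :
    ∑ x : zpowers g, f x = ∑ i ∈ Finset.range (orderOf g), f (g ^ i) := by
  rw [Finset.sum_range, ← Equiv.sum_comp (finEquivZPowers (isOfFinOrder_of_finite g))]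
  rfl

theorem t_inv {g z : G} (z2 : z * z = 1) (h : g * z * (g * z) = 1) : z * g * z⁻¹ = g⁻¹ := by
  rw [inv_eq_of_mul_eq_one_right z2, eq_inv_iff_mul_eq_one]
  calc _ = z * (g * z * (g * z)) * z⁻¹ := by group
    _ = _ := by rw [h]; group

theorem t_even {g z : G} (h : z * g * z⁻¹ = g⁻¹) (j : ℕ) : g ^ j * z * (g ^ j)⁻¹ = g ^ (2 * j) * z := by
  have : z * (g ^ j)⁻¹ * z⁻¹ = g ^ j := by rw [← inv_pow, ← conj_pow, ← conj_inv, h, inv_inv]
  calc _ = g ^ j * (z * (g ^ j)⁻¹ * z⁻¹) * z := by group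
    _ = _ := by rw [this, ← pow_add, two_mul]

theorem t_coset [Finite G] {U : G → ℤ} (hU : IsCharacter G fun g => (U g : ℂ)) {g z : G} (z2 : z * z = 1)
    (h : z * g * z⁻¹ = g⁻¹) (hv : ∀ i < orderOf g, U (g ^ i * z) = -2) :
    ∃ d : ℤ, ∑ i ∈ Finset.range (orderOf g), U (g ^ i) = orderOf g * d ∧ 2 ≤ d ∧ Even d := by
  classical
  have := Fintype.ofFinite (zpowers g)
  have := Fintype.ofFinite ((zpowers g).subgroupOf (normalizer (zpowers g : Set G)))
  have hz : z ∈ normalizer (zpowers g : Set G) := mem_normalizer_fintype fun n hn => by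
    obtain ⟨i, rfl⟩ := mem_zpowers_iff.1 hn
    rw [← conj_zpow, h]; exact zpow_mem (inv_mem (mem_zpowers g)) i
  have h1 := isCharacter_cosetAvg (N := (zpowers g).subgroupOf (normalizer (zpowers g : Set G))) (hU.restrict _)
  rw [show cosetAvg _ _ = fun x : normalizer (zpowers g : Set G) => cosetAvg (zpowers g) (fun g => (U g : ℂ)) x from
    funext fun x => cosetAvg_subgroupOf le_normalizer _ x] at h1
  have n0 : (orderOf g : ℂ) ≠ 0 := Nat.cast_ne_zero.2 (orderOf_pos g).ne'
  have e1 : cosetAvg (zpowers g) (fun g => (U g : ℂ)) z = (-2 : ℤ) := by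
    rw [cosetAvg_apply, t_sum_zpowers g fun x => (U (x * z) : ℂ), Nat.card_zpowers,
      Finset.sum_congr rfl fun i hi => by rw [hv i (Finset.mem_range.1 hi)]]
    simp [n0]
  have e2 := h1.cast_charDegree
  have e3 := h1.norm_le ⟨z, hz⟩
  have e4 := isGenChar_intModEq_one h1.isGeneralizedCharacter Nat.prime_two (g := ⟨z, hz⟩) (k := 1)
    (Subtype.ext (by simpa [pow_two] using z2)) e1 (b := _) (e2.symm.trans (Int.cast_natCast _).symm)
  generalize charDegree (fun x : normalizer (zpowers g : Set G) => cosetAvg (zpowers g) (fun g => (U g : ℂ)) x) = d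
    at e2 e3 e4
  refine ⟨d, ?_, ?_, ?_⟩
  · simp only [cosetAvg_apply, OneMemClass.coe_one, mul_one] at e2
    rw [t_sum_zpowers g fun x => (U x : ℂ), Nat.card_zpowers, eq_inv_mul_iff_mul_eq₀ n0] at e2
    exact_mod_cast e2.symm
  · simp only [e1] at e3
    have : (2 : ℝ) ≤ d := by simpa using e3
    exact_mod_cast this
  · obtain ⟨c, hc⟩ := e4.dvd
    exact ⟨c - 1, by push_cast at hc; linarith⟩

theorem t_sum3 (f : ℕ → ℤ) (m : ℕ) :
    ∑ i ∈ Finset.range (3 * m), f i = ∑ j ∈ Finset.range m, (f (3 * j) + f (3 * j + 1) + f (3 * j + 2)) := by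
  induction m with
  | zero => rfl
  | succ m ih => rw [Finset.sum_range_succ _ m, ← ih, mul_add, mul_one, Finset.sum_range_succ, Finset.sum_range_succ,
      Finset.sum_range_succ]; ring

theorem stepT : StepT.{u} := by
  intro G _ _ _ u z U W Q R F Z
  classical
  obtain ⟨u1, w1, q1, r1⟩ := F.one
  obtain ⟨uz, wz, qz, rz⟩ := Z.val
  have z2 : z * z = 1 := by rw [← pow_two, ← Z.ord, pow_orderOf_eq_one]
  have hU := F.hU.isCharacter
  have cK : Nat.card {x : G // IsConj z x} = 45 := (card_isConj_eq_index z).trans Z.cl_eq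
  have cK' : (Finset.univ.filter fun x => IsConj z x).card = 45 := by
    rw [← cK, Nat.card_eq_fintype_card, Fintype.card_subtype]
  have sm : ∀ {X : G → ℤ} (s : ℤ), IZ X → X 1 ≠ 0 → 45 * X z * X z = s * X 1 → ∑ x with IsConj z x, X (x * z) = s :=
    fun {X} s hX h0 e => by
      have := classAlg_sum_class_mul_right hX z z
      rw [cK, eq_div_iff (Int.cast_ne_zero.2 h0)] at this
      refine mul_right_cancel₀ h0 ?_
      rw [← e]
      exact_mod_cast this
  have sU := sm 30 F.hU (by omega) (by rw [uz, u1]; rfl)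
  have sW := sm 120 F.hW (by omega) (by rw [wz, w1]; rfl)
  have sQ := sm 0 F.hQ (by omega) (by rw [qz]; simp)
  have sR := sm 45 F.hR (by omega) (by rw [rz, r1]; rfl)
  have phi : ∀ t, IsConj z t → 9 - 3 * U (t * z) - 3 * W (t * z) + R (t * z) = 0 := fun t ht =>
    (Finset.sum_eq_zero_iff_of_nonneg (s := Finset.univ.filter fun x => IsConj z x)
      (f := fun t => 9 - 3 * U (t * z) - 3 * W (t * z) + R (t * z)) fun x _ => by
        have h1 := F.pairs z (x * z)
        have h2 : (0 : ℤ) ≤ (np z (x * z) u : ℤ) * cc z * cc (x * z) := by positivity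
        rw [uz, wz, qz, rz] at h1
        linarith).1 (by
      simp only [Finset.sum_add_distrib, Finset.sum_sub_distrib, ← Finset.mul_sum, sU, sW, sR, Finset.sum_const, cK']
      rfl) t (by simpa using ht)
  have ub : ∀ x, U x ≤ 6 ∧ (U x = 6 → x = 1) := fun x => by
    have e : charDegree (fun g => (U g : ℂ)) = 6 := charDegree_eq_of_eq (by simp [u1])
    refine ⟨?_, fun h => ?_⟩
    · have := hU.norm_le x
      rw [e, Complex.norm_intCast] at this
      exact_mod_cast (le_abs_self _).trans this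
    · have h1 := F.hU.charKer_eq_bot_of_simple fun e => by
        have := congrFun e 1
        simp [u1] at this
      exact mem_bot.1 (h1 ▸ hU.mem_charKer.2 (by simp [h, u1]))
  have cu : ∀ t, IsConj z t → U t = -2 := fun t ht => by
    have := isClassFunction_iff_isConj.1 hU.isClassFunction z t ht
    rw [← uz]; exact_mod_cast this.symm
  have sq : ∀ g, IsConj z (g * z) → z * g * z⁻¹ = g⁻¹ := fun g hg => by
    obtain ⟨c, e⟩ := isConj_iff.1 hg
    exact t_inv z2 (by rw [← e, conj_mul, z2]; group)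
  have ev : ∀ g, IsConj z (g * z) → ∀ j, IsConj z (g ^ (2 * j) * z) := fun g hg j =>
    isConj_iff.2 ⟨_, t_even (sq g hg) j⟩
  have gen : ∀ (g : G) (m : ℕ), m.Coprime (orderOf g) → U (g ^ m) = U g := fun g m hm => by
    exact_mod_cast genChar_pow_eq_of_rat hU.isGeneralizedCharacter (q := U g) (by simp) hm
  have key : ∀ g, IsConj z (g * z) → g ≠ 1 → U g - Q g ≤ 2 ∧
      (U g - Q g = 2 → g ^ 3 = 1 ∨ (g ^ 2 ^ 6 = 1 ∧ U g = 2)) := fun g hg g1 => by
    have p := phi _ hg
    rw [mul_assoc, z2, mul_one] at p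
    have n5 : orderOf g ≠ 5 := fun e => by obtain ⟨a, b, -, c⟩ := F.val g e; omega
    have h5 : ¬ 5 ∣ orderOf g := fun e => n5 (F.five g e)
    have rel := F.rel g n5
    have hd : orderOf g ∣ 64 * 81 := ((Nat.Prime.coprime_iff_not_dvd Nat.prime_five).2 h5).symm.dvd_of_dvd_mul_right
      (by have := orderOf_dvd_natCard g; rwa [F.card] at this)
    by_cases h3 : 3 ∣ orderOf g
    · have r0 := F.r0 g h3
      by_cases h2 : 2 ∣ orderOf g
      · have := F.q0 g h2
        omega
      have c2 := ((Nat.Prime.coprime_iff_not_dvd Nat.prime_two).2 h2).symm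
      have hd' : orderOf g ∣ 3 ^ 4 := (c2.pow_right 6).dvd_of_dvd_mul_left hd
      obtain ⟨k, hk⟩ := Nat.coprime_two_right.1 c2
      obtain ⟨d, e, d2, -⟩ := t_coset hU z2 (sq g hg) fun i _ => cu _ (by
        have := ev g hg (i * (k + 1))
        rwa [show 2 * (i * (k + 1)) = (2 * k + 1) * i + i by ring, ← hk, pow_add, pow_mul, pow_orderOf_eq_one, one_pow,
          one_mul] at this)
      obtain ⟨m, hm⟩ := h3
      have m0 : 0 < m := Nat.pos_of_mul_pos_left (hm ▸ orderOf_pos g)
      have k1 : ∀ i, ¬ 3 ∣ i → U (g ^ i) = U g := fun i hi => gen g i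
        ((((Nat.Prime.coprime_iff_not_dvd Nat.prime_three).2 hi).symm.pow_right 4).coprime_dvd_right hd')
      rw [hm, t_sum3, Finset.sum_congr rfl fun j _ => by rw [k1 (3 * j + 1) (by omega), k1 (3 * j + 2) (by omega)]] at e
      have e1 : ∑ j ∈ Finset.range m, (6 - U (g ^ (3 * j))) = m * (6 + 2 * U g - 3 * d) := by
        simp only [Finset.sum_add_distrib, Finset.sum_sub_distrib, Finset.sum_const, Finset.card_range, nsmul_eq_mul]
          at e ⊢
        push_cast at e
        linarith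
      have e2 : ∀ j ∈ Finset.range m, 0 ≤ 6 - U (g ^ (3 * j)) := fun j _ => sub_nonneg.2 (ub _).1
      have e3 := e1 ▸ Finset.sum_nonneg e2
      have e4 : 0 ≤ 6 + 2 * U g - 3 * d := nonneg_of_mul_nonneg_right e3 (by exact_mod_cast m0) |> fun h => h
      refine ⟨by omega, fun e5 => Or.inl ?_⟩
      by_cases m1 : m = 1
      · rw [← orderOf_dvd_iff_pow_eq_one, hm, m1]
      · have := (Finset.sum_eq_zero_iff_of_nonneg e2).1 (by rw [e1, show 6 + 2 * U g - 3 * d = 0 by omega, mul_zero]) 1
          (Finset.mem_range.2 (by omega))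
        exact (ub _).2 (by rw [mul_one] at this; omega)
    · have hd' : orderOf g ∣ 2 ^ 6 :=
        (((Nat.Prime.coprime_iff_not_dvd Nat.prime_three).2 h3).symm.pow_right 4).dvd_of_dvd_mul_right hd
      have q0 := F.q0 g (by
        obtain ⟨j, -, hj⟩ := (Nat.dvd_prime_pow Nat.prime_two).1 hd'
        rcases j with _ | j
        · exact (g1 (orderOf_eq_one_iff.1 hj)).elim
        · rw [hj]; exact dvd_pow_self 2 j.succ_ne_zero)
      have := Z.le_two g g1 h3 h5
      exact ⟨by omega, fun e => Or.inr ⟨orderOf_dvd_iff_pow_eq_one.1 hd', by omega⟩⟩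
  have all : ∀ g, IsConj z (g * z) → g ≠ 1 → g ^ 3 = 1 ∨ (g ^ 2 ^ 6 = 1 ∧ U g = 2) := fun g hg g1 => by
    refine (key g hg g1).2 ?_
    have hz : z ∈ Finset.univ.filter fun x => IsConj z x := Finset.mem_filter.2 ⟨Finset.mem_univ _, IsConj.refl z⟩
    have h1 := (Finset.sum_eq_zero_iff_of_nonneg (s := (Finset.univ.filter fun x => IsConj z x).erase z)
      (f := fun t => 2 - (U (t * z) - Q (t * z))) fun t ht => sub_nonneg.2 (key _ (by
        rw [mul_assoc, z2, mul_one]; simpa using (Finset.mem_erase.1 ht).2) fun e => (Finset.mem_erase.1 ht).1 (by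
          rw [eq_inv_of_mul_eq_one_left e, inv_eq_of_mul_eq_one_right z2])).1).1 (by
        have := Finset.add_sum_erase _ (fun t => 2 - (U (t * z) - Q (t * z))) hz
        simp only [Finset.sum_sub_distrib, sU, sQ, Finset.sum_const, cK', z2, u1, q1] at this ⊢
        simp only [nsmul_eq_mul] at this ⊢
        push_cast at this
        linarith) (g * z) (Finset.mem_erase.2 ⟨fun e => g1 (by simpa using e), by simpa using hg⟩)
    rw [mul_assoc, z2, mul_one] at h1
    omega
  have four : ∀ f, IsConj z (f * z) → f ^ 2 ≠ 1 → f ^ 4 ≠ 1 := fun f hf f2 f4 => by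
    have o : orderOf f = 2 ^ 2 := orderOf_eq_prime_pow (p := 2) (n := 1) (by simpa using f2) f4
    have h1 : U f = 2 := ((all f hf fun e => f2 (by rw [e, one_pow])).resolve_left fun e => by
      have := orderOf_dvd_of_pow_eq_one e
      rw [o] at this; omega).2
    have h2 : U (f ^ 2) = 2 := ((all _ (ev f hf 1) f2).resolve_left fun e => by
      have := orderOf_dvd_of_pow_eq_one ((pow_mul f 2 3).trans e)
      rw [o] at this; omega).2
    have h3 : U (f ^ 3) = 2 := (gen f 3 (by rw [o]; norm_num)).trans h1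
    obtain ⟨d, e, -, c, hc⟩ := t_coset hU z2 (sq f hf) fun i hi => cu _ (by
      obtain rfl | rfl | rfl | rfl : i = 0 ∨ i = 1 ∨ i = 2 ∨ i = 3 := by rw [o] at hi; omega
      · rw [pow_zero, one_mul]
      · simpa using hf
      · exact ev f hf 1
      · refine hf.trans (isConj_iff.2 ⟨f, ?_⟩)
        calc _ = f * (f ^ 1 * z * (f ^ 1)⁻¹) := by simp only [pow_one, mul_assoc]
          _ = _ := by rw [t_even (sq f hf), ← mul_assoc, ← pow_succ'])
    rw [o] at e
    simp only [show 2 ^ 2 = 4 from rfl, Finset.sum_range_succ, Finset.sum_range_zero, pow_zero, pow_one, u1, h1, h2,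
      h3] at e
    omega
  have two : ∀ (k : ℕ) (g : G), IsConj z (g * z) → g ^ 2 ^ k = 1 → g ^ 2 = 1 := fun k => by
    induction k with
    | zero => intro g _ e; rw [pow_zero, pow_one] at e; rw [e, one_pow]
    | succ k ih =>
      intro g hg e
      by_contra g2
      exact four g hg g2 ((pow_mul g 2 2).trans (ih _ (ev g hg 1) (by rwa [← pow_mul, ← pow_succ'])))
  intro t ht
  have hg : IsConj z (t * z * z) := by rwa [mul_assoc, z2, mul_one]
  by_cases g1 : t * z = 1
  · exact Or.inl (by rw [g1, one_pow])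
  exact (all _ hg g1).symm.imp_left fun h => two 6 _ hg h.1

end CL.T35
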