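/-
Project T35: the principal 3-block when a Sylow 3-subgroup has order 3.
-/
import Cfsg.Agent.T35.Defs
import Cfsg.Agent.Inv.PBBasic
import Cfsg.Agent.Inv.Small1

set_option autoImplicit false
set_option linter.style.haveILetI false
set_option linter.unusedSectionVars false

namespace CL.T35

open Cfsg Subgroup Finset CL.Char CL.Blk CL.Inv.PO
open CL.Ix2 (cc cl np L2 cc_mul_cl)
open scoped Classical

universe u

namespace TriA

variable {G : Type u} [Group G] [Fintype G]

theorem tri_of {χ ψ : IrrCharacter G} (h1 : 1 < charDegree (ψ : G → ℂ))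
    (reg : ∀ g : G, ¬ 3 ∣ orderOf g → (χ : G → ℂ) g = (ψ : G → ℂ) g + 1)
    (sing : ∀ g : G, 3 ∣ orderOf g → (χ : G → ℂ) g = -1 ∧ (ψ : G → ℂ) g = 1)
    (conj : ∀ x y : G, orderOf x = 3 → orderOf y = 3 → IsConj x y) : ∃ X Y : G → ℤ, Tri X Y := by
  have ne : ψ ≠ χ := fun e => by simpa [e] using reg 1 (by simp)
  have k : ∀ σ : ℂ ≃+* ℂ, galIrr σ χ = χ ∧ (galIrr σ ψ : G → ℂ) = ψ := fun σ => by
    have e : (galIrr σ ψ : G → ℂ) + χ = (galIrr σ χ : G → ℂ) + ψ := funext fun g => by
      simp only [Pi.add_apply, galIrr_apply]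
      by_cases h : 3 ∣ orderOf g
      · simp [sing g h]
      · rw [reg g h, map_add, map_one]; ring
    have e1 : galIrr σ χ = χ := by_contra fun n => by
      have := congrArg (classInner · (χ : G → ℂ)) e
      simp only [classInner_add_left, classInner_irr, if_neg n, if_neg ne, if_true] at this
      split_ifs at this <;> norm_num at this
    exact ⟨e1, by rwa [e1, add_comm, add_right_inj] at e⟩
  choose X hX using fun g => exists_int_of_forall_ringEquiv (isChar_isIntegral χ.2.isCharacter g) fun σ => by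
    rw [← galIrr_apply, (k σ).1]
  choose Y hY using fun g => exists_int_of_forall_ringEquiv (isChar_isIntegral ψ.2.isCharacter g) fun σ => by
    rw [← galIrr_apply, (k σ).2]
  refine ⟨X, Y, by rw [IZ, ← funext hX]; exact χ.2, by rw [IZ, ← funext hY]; exact ψ.2, ?_,
    fun g h => ?_, fun g h => ?_, conj⟩
  · have := ψ.2.cast_charDegree.trans (hY 1)
    have : (charDegree (ψ : G → ℂ) : ℤ) = Y 1 := by exact_mod_cast this
    omega
  · have := reg g h
    rw [hX, hY] at this
    exact_mod_cast this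
  · have := sing g h
    rw [hX, hY] at this
    exact_mod_cast this

theorem sum2 {X : G → ℤ} (hX : IZ X) (g h : G) : ∑ b with IsConj h b, ∑ a with IsConj g a, (X (a * b) : ℂ) =
    cl g * cl h * X g * X h / X 1 := by
  rw [sum_congr rfl (g := fun _ => (cl g * X g * X h / X 1 : ℂ)) fun b hb => ?_, sum_const, nsmul_eq_mul,
    ← Fintype.card_subtype, ← Nat.card_eq_fintype_card, Char.card_isConj_eq_index, ← cl]
  · ring
  · obtain ⟨c, rfl⟩ := isConj_iff.1 (mem_filter.1 hb).2
    rw [classAlg_sum_class_mul_right hX, Char.card_isConj_eq_index, cl, show _ = (X h : ℂ) from hX.isClassFunction h c]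

end TriA

open TriA

theorem stepTri : StepTri.{u} := by
  intro G _ _ _ hG h3 h9
  haveI : Fact (Nat.Prime 3) := ⟨by decide⟩
  have pf := CL.Inv.commutator_eq_top_of_simple hG
  obtain ⟨x, ⟨K⟩⟩ := exists_ctx_of_dvd h3 h9
  obtain ⟨M, hM⟩ := exists_isPModular' Nat.prime_three
  obtain ⟨D, d1, d2⟩ := K.exists_data_principal hM
  have f2 : K.f = 2 := le_antisymm (Nat.le_of_dvd two_pos K.f_dvd) (D.two_le_f d1 pf)
  have hE : K.E (irrOne _) = ⊤ := index_eq_one.1 (by have := K.index_E_one; rw [f2] at this; omega)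
  obtain ⟨χ, hχ⟩ := card_eq_one.1 (show (D.X.erase (irrOne G)).card = 1 by rw [card_erase_of_mem d1, D.card_X_one, f2])
  have m := mem_erase.1 (hχ.ge (mem_singleton_self χ))
  have sX : ∀ F : IrrCharacter G → ℂ, ∑ φ ∈ D.X, F φ = F (irrOne G) + F χ := fun F => by
    rw [← add_sum_erase _ _ d1, hχ, sum_singleton]
  have reg : ∀ g : G, ¬ 3 ∣ orderOf g → D.ε * (D.μ 1 : G → ℂ) g = 1 + D.s χ * (χ : G → ℂ) g := fun g h => by
    rw [D.reg_rel 1 h, sX, d2]; simp [irrOne]
  have sμ : ∀ g : G, 3 ∣ orderOf g → (D.μ 1 : G → ℂ) g = -D.ε := fun g h => by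
    have := D.sum_μ_sing_one h
    rw [sum_congr rfl fun k _ => by rw [(D.μ_eq k 1).2 (hE ▸ mem_top _)], sum_const, f2,
      show #(univ : Finset (ZMod 3)ˣ) = 2 from ZMod.card_units 3] at this
    simp only [nsmul_eq_mul, Nat.cast_ofNat] at this
    linear_combination this / 2
  have dg : ∀ φ : IrrCharacter G, φ ≠ irrOne G → 1 < charDegree (φ : G → ℂ) := fun φ h =>
    lt_of_le_of_ne φ.2.charDegree_pos fun e => h (eq_irrOne_of_perfect pf e.symm)
  have g1 := dg _ m.1
  have g2 := dg (D.μ 1) fun e => D.μ_notMem 1 (e ▸ d1)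
  have r1 := reg 1 (by simp)
  rw [← χ.2.cast_charDegree, ← (D.μ 1).2.cast_charDegree] at r1
  have r2 : D.ε * charDegree (D.μ 1 : G → ℂ) = 1 + D.s χ * charDegree (χ : G → ℂ) := by exact_mod_cast r1
  have cj : ∀ y : G, orderOf y = 3 → IsConj x y := fun y hy => by
    obtain ⟨c, hc⟩ := K.exists_conj_mem_C (g := y) (hy ▸ dvd_rfl)
    obtain ⟨k, hk⟩ := exists_pow_val_of_mem K.hx (K.mem_P_of_pow_eq_one (K.C_le_N hc) (by
      rw [conj_pow, ← hy, pow_orderOf_eq_one]; simp))
    obtain ⟨n, hn⟩ := (K.E_one.symm.trans hE).ge (mem_top (Units.mk0 k fun e => by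
      rw [e, ZMod.val_zero, pow_zero, eq_comm, conj_eq_one_iff] at hk
      simp [hk] at hy))
    have := K.a_spec n
    rw [hn, Units.val_mk0, hk] at this
    exact (isConj_iff.2 ⟨(n : G), this.symm⟩).trans (isConj_iff.2 ⟨c, rfl⟩).symm
  have conj := fun y z hy hz => (cj y hy).symm.trans (cj z hz)
  rcases D.hε with e | e <;> rcases D.hs χ m.2 with s | s <;> rw [e, s] at r2 reg
  · exact tri_of g1 (χ := D.μ 1) (fun g h => by simpa [add_comm] using reg g h)
      (fun g h => ⟨by simp [sμ g h, e], by simp [D.X_sing_one m.2 h, s]⟩) conj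
  · omega
  · omega
  · exact tri_of g2 (χ := χ) (fun g h => by have := reg g h; push_cast at this; linear_combination this)
      (fun g h => ⟨by simp [D.X_sing_one m.2 h, s], by simp [sμ g h, e]⟩) conj

theorem stepInt : StepInt.{u} := by
  intro G _ _ X Y T x g h hx hg hh
  let S := univ.filter fun p : G × G => (IsConj h p.1 ∧ IsConj g p.2) ∧ 3 ∣ orderOf (p.2 * p.1)
  let π : G × G → G := fun p => (p.2 * p.1) ^ (orderOf (p.2 * p.1) / 3)
  have hP : #S = cl x * #{p ∈ S | π p = x} := by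
    rw [card_eq_sum_card_fiberwise (f := π) (t := univ.filter (IsConj x ·)) fun p hp => mem_filter.2 ⟨mem_univ _,
      T.conj _ _ hx (orderOf_pow_orderOf_div (orderOf_pos _).ne' (mem_filter.1 hp).2.2)⟩,
      sum_congr rfl (g := fun _ => #{p ∈ S | π p = x}) fun y hy => ?_, sum_const, smul_eq_mul, ← Fintype.card_subtype,
      ← Nat.card_eq_fintype_card, Char.card_isConj_eq_index, cl]
    obtain ⟨c, rfl⟩ := isConj_iff.1 (mem_filter.1 hy).2
    refine (card_equiv ((MulAut.conj c).toEquiv.prodCongr (MulAut.conj c).toEquiv) fun p => ?_).symm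
    have k : ∀ a b : G, IsConj a (c * b * c⁻¹) ↔ IsConj a b := fun a b =>
      ⟨(·.trans (isConj_iff.2 ⟨c, rfl⟩).symm), (·.trans (isConj_iff.2 ⟨c, rfl⟩))⟩
    have o : ∀ w : G, orderOf (c * w * c⁻¹) = orderOf w := fun w => (MulAut.conj c).orderOf_eq w
    simp only [S, π, mem_filter, mem_univ, true_and, Equiv.prodCongr_apply, Prod.map_fst, Prod.map_snd,
      MulEquiv.toEquiv_eq_coe, EquivLike.coe_coe, MulAut.conj_apply, k, conj_mul, o, conj_pow, mul_left_inj,
      mul_right_inj]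
  have h1 : ∑ b with IsConj h b, ∑ a with IsConj g a, (1 - X (a * b) + Y (a * b) : ℂ) = 3 * #S := by
    rw [← sum_product', card_filter, Nat.cast_sum, mul_sum, ← filter_product, univ_product_univ, sum_filter]
    refine sum_congr rfl fun p _ => ?_
    by_cases e : 3 ∣ orderOf (p.2 * p.1)
    · simp only [T.sing _ e, e, and_true]; split_ifs <;> norm_num
    · simp [T.reg _ e, e]
  have c : ∀ a : G, #(univ.filter (IsConj a ·)) = cl a := fun a => by
    rw [← Fintype.card_subtype, ← Nat.card_eq_fintype_card, Char.card_isConj_eq_index, cl]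
  simp only [sum_add_distrib, sum_sub_distrib, sum2 T.hX, sum2 T.hY, sum_const, c, hP, nsmul_eq_mul, mul_one,
    T.reg g hg, T.reg h hh, T.reg 1 (by simp)] at h1
  have y1 := T.one_lt
  have n1 : (Y 1 : ℂ) ≠ 0 := by exact_mod_cast (by omega : Y 1 ≠ 0)
  have n2 : (Y 1 + 1 : ℂ) ≠ 0 := by exact_mod_cast (by omega : Y 1 + 1 ≠ 0)
  have n3 : (Nat.card G : ℂ) ≠ 0 := by exact_mod_cast Nat.card_pos.ne'
  have e : ∀ a : G, (cc a : ℂ) * cl a = Nat.card G := fun a => by exact_mod_cast cc_mul_cl a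
  refine ⟨#{p ∈ S | π p = x}, ?_⟩
  rw [T.reg 1 (by simp)]
  push_cast at h1
  field_simp at h1
  refine Int.cast_injective (α := ℂ) (mul_left_cancel₀ n3 ?_)
  push_cast
  generalize (#{p ∈ S | π p = x} : ℂ) = n at h1
  linear_combination -(cc x * cc g * cc h) * h1 - 3 * n * cc g * cc h * (Y 1 + 1) * Y 1 * e x +
    cc x * (Y 1 - Y g) * (Y 1 - Y h) * (cc h * cl h * e g + Nat.card G * e h)

end CL.T35
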