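/-
Project T35, job T35-Z: the class of 45 involutions.
-/
import Cfsg.Agent.T35.Defs
import Cfsg.Agent.Fgs.Ix2CA

set_option autoImplicit false
set_option linter.unusedSectionVars false

namespace CL.T35

open Cfsg Subgroup CL.Char
open CL.Ix2 (cc cl np L2)

universe u

variable {G : Type u} [Group G]

theorem z_conj {X : G → ℤ} (h : IZ X) {a b : G} (e : IsConj a b) : X a = X b := by
  have := IsClassFunction.apply_eq_of_isConj (IsIrrCharacter.isClassFunction h) e
  exact_mod_cast this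

theorem z_ord {a b : G} (e : IsConj a b) : orderOf a = orderOf b := by
  obtain ⟨c, rfl⟩ := isConj_iff.1 e
  exact ((MulAut.conj c).orderOf_eq a).symm

theorem z_bd [Fintype G] [IsSimpleGroup G] {X : G → ℤ} (h : IZ X) {n : ℕ} (hn : X 1 = n) (h1 : 1 < n) {g : G}
    (hg : g ≠ 1) : -(n : ℤ) ≤ X g ∧ X g < n := by
  have h0 : ((X 1 : ℤ) : ℂ) = n := by rw [hn, Int.cast_natCast]
  have h2 := (IsIrrCharacter.isCharacter h).norm_le g
  rw [charDegree_eq_of_eq h0, Complex.norm_intCast] at h2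
  have h3 : |X g| ≤ n := by exact_mod_cast h2
  refine ⟨(abs_le.1 h3).1, lt_of_le_of_ne (abs_le.1 h3).2 fun e => ?_⟩
  have h4 : g ∈ charKer fun g => (X g : ℂ) := (IsIrrCharacter.mem_charKer h).2 (by rw [e, hn])
  rcases IsSimpleGroup.eq_bot_or_eq_top_of_normal _ (IsIrrCharacter.charKer_normal h) with e1 | e1
  · rw [e1] at h4; exact hg h4
  · have h5 := IsIrrCharacter.sum_eq_zero h fun e2 => by
      have h6 : (n : ℂ) = 1 := h0.symm.trans (congrFun e2 1)
      have : n = 1 := by exact_mod_cast h6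
      omega
    rw [Finset.sum_congr rfl (g := fun _ => (n : ℂ)) fun x _ => by
      rw [← h0]; exact apply_eq_one_of_mem_charKer (χ := fun g => (X g : ℂ)) (e1 ▸ mem_top x), Finset.sum_const,
      nsmul_eq_mul, mul_eq_zero] at h5
    rcases h5 with h5 | h5
    · exact Finset.card_ne_zero.2 Finset.univ_nonempty (by exact_mod_cast h5)
    · have : n = 0 := by exact_mod_cast h5
      omega

theorem z_sum [Fintype G] {A B : G → ℤ} {n : ℕ}
    (h : classInner (fun g => (A g : ℂ)) (fun g => (B g : ℂ)) = n) : ∑ g, A g * B g = n * Nat.card G := by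
  rw [classInner_def, inv_mul_eq_iff_eq_mul₀ natCard_ne_zero] at h
  simp only [map_intCast] at h
  rw [mul_comm]
  exact_mod_cast h

theorem z_cls [Fintype G] (f : G → ℤ) (T : Finset G) (hf : ∀ x ∈ T, 0 ≤ f x) (g : G) {c : ℤ}
    (hT : ∀ x, IsConj g x → x ∈ T ∧ c ≤ f x) : cl g * c ≤ ∑ x ∈ T, f x := by
  classical
  calc (cl g : ℤ) * c = ∑ x with IsConj g x, c := by
        rw [Finset.sum_const, nsmul_eq_mul, cl, ← card_isConj_eq_index, Nat.card_eq_fintype_card, Fintype.card_subtype]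
    _ ≤ ∑ x with IsConj g x, f x := Finset.sum_le_sum fun x hx => (hT x (Finset.mem_filter.1 hx).2).2
    _ ≤ _ := Finset.sum_le_sum_of_subset_of_nonneg (fun x hx => (hT x (Finset.mem_filter.1 hx).2).1)
      fun x hx _ => hf x hx

theorem z_eig [Finite G] {χ : G → ℂ} (h : IsCharacter G χ) (g : G) (m : ℕ) (hm : orderOf g ∣ 2 * m) :
    ‖χ g + χ (g ^ (1 + m))‖ ≤ (χ 1 + χ (g ^ m)).re := by
  obtain ⟨n, μ, h1, h2, h3⟩ := isChar_exists_eigenvalues h g
  have h4 := h3 1
  have h0 := h3 0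
  rw [pow_one] at h4
  rw [pow_zero] at h0
  rw [h4, h3, h3, h0, ← Finset.sum_add_distrib, ← Finset.sum_add_distrib, Complex.re_sum]
  refine (norm_sum_le _ _).trans (Finset.sum_le_sum fun i _ => ?_)
  have h5 : μ i ^ m * μ i ^ m = 1 := by
    obtain ⟨k, hk⟩ := hm
    rw [← pow_add, ← two_mul, hk, pow_mul, h2, one_pow]
  have h6 : ‖μ i‖ = 1 := Complex.norm_eq_one_of_pow_eq_one (h2 i) (orderOf_pos g).ne'
  rw [pow_add, pow_one, pow_zero]
  rcases mul_self_eq_one_iff.1 h5 with e | e <;> rw [e]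
  · rw [mul_one, ← two_mul, norm_mul, h6]; norm_num
  · simp

def zE (a b : ℕ) : ℤ :=
  5184 + 864 * (2 * (a : ℤ) - 6) ^ 2 - 216 * (2 * (b : ℤ) - 24) ^ 2 + 64 * (2 * (b : ℤ) - 24 - 1 - (2 * a - 6)) ^ 2

theorem z_fin1 : ∀ a < 6, ∀ b < 24, zE a b < 320 ^ 2 := by decide +kernel

set_option synthInstance.maxSize 1000 in
theorem z_fin2 : ∀ a < 6, ∀ b < 24, ∀ c < 320, zE a b = (c : ℕ) ^ 2 →
    (a = 2 ∧ b = 16) ∨ (0 < c ∧ c ≤ 144 ∧ ¬ 64 ∣ c) := by decide +kernel

section
variable [Fintype G] [IsSimpleGroup G] {u : G} {U W Q R : G → ℤ}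

theorem F25.even (h : F25 u U W Q R) {g : G} (hg : g ^ 2 ^ 6 = 1) : 2 ∣ U g ∧ 2 ∣ W g := by
  have h1 := isGenChar_intModEq_one (IsIrrCharacter.isGeneralizedCharacter h.hU) Nat.prime_two hg rfl rfl
  have h2 := isGenChar_intModEq_one (IsIrrCharacter.isGeneralizedCharacter h.hW) Nat.prime_two hg rfl rfl
  rw [h.one.1] at h1
  rw [h.one.2.1] at h2
  unfold Int.ModEq at h1 h2
  omega

theorem F25.invol (h : F25 u U W Q R) {t : G} (ht : orderOf t = 2) (hc : 144 < cc t ∨ 64 ∣ cc t) :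
    U t = -2 ∧ W t = 8 ∧ Q t = 0 ∧ R t = 9 := by
  have t1 : t ≠ 1 := fun e => by rw [e, orderOf_one] at ht; omega
  obtain ⟨u1, u2⟩ := z_bd h.hU (n := 6) h.one.1 (by norm_num) t1
  obtain ⟨w1, w2⟩ := z_bd h.hW (n := 24) h.one.2.1 (by norm_num) t1
  obtain ⟨e1, e2⟩ := h.even (g := t) (orderOf_dvd_iff_pow_eq_one.1 (by rw [ht]; norm_num))
  have q0 := h.q0 t (by rw [ht])
  have r := h.rel t (by rw [ht]; norm_num)
  have p := h.pairs t t
  obtain ⟨a, ha⟩ : ∃ a : ℕ, U t = 2 * a - 6 := ⟨((U t + 6) / 2).toNat, by omega⟩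
  obtain ⟨b, hb⟩ : ∃ b : ℕ, W t = 2 * b - 24 := ⟨((W t + 24) / 2).toNat, by omega⟩
  have a6 : a < 6 := by omega
  have b24 : b < 24 := by omega
  have hR : R t = 2 * b - 24 - 1 - (2 * a - 6) := by omega
  have hE : (np t t u : ℤ) * cc t * cc t = 5 * zE a b := by rw [p, q0, hR, ha, hb, zE]; ring
  have key : a = 2 ∧ b = 16 := by
    rcases h.inv t ht with e | e <;> rw [e] at hE
    · exact (z_fin2 a a6 b b24 0 (by norm_num) (by push_cast at hE ⊢; linarith)).resolve_right (by omega)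
    · have h1 : zE a b = (cc t : ℕ) ^ 2 := by push_cast at hE; linarith
      have h2 := z_fin1 a a6 b b24
      have h3 : cc t < 320 := by
        rw [h1] at h2
        exact_mod_cast lt_of_pow_lt_pow_left₀ 2 (by norm_num) h2
      exact (z_fin2 a a6 b b24 _ h3 h1).resolve_right (by omega)
  obtain ⟨rfl, rfl⟩ := key
  omega

open Classical in
theorem F25.split (h : F25 u U W Q R) (φ : G → ℤ) {c : ℤ} (h3 : ∀ g, 3 ∣ orderOf g → φ g = 0)
    (h5 : ∀ g, orderOf g = 5 → φ g = c) :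
    ∑ g, φ g = φ 1 + 5184 * c + ∑ g with g ≠ 1 ∧ ¬ 3 ∣ orderOf g ∧ ¬ 5 ∣ orderOf g, φ g := by
  have e5 : ∑ g : G with orderOf g = 5, c = 5184 * c := by
    rw [Finset.sum_const, nsmul_eq_mul, ← Fintype.card_subtype, ← Nat.card_eq_fintype_card, h.card5]; rfl
  have e1 : φ 1 = ∑ g, if g = 1 then φ g else 0 := by simp
  rw [← e5, e1, Finset.sum_filter, Finset.sum_filter, ← Finset.sum_add_distrib, ← Finset.sum_add_distrib]
  refine Finset.sum_congr rfl fun g _ => ?_
  by_cases g1 : g = 1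
  · subst g1; simp
  by_cases g5 : orderOf g = 5
  · simp [g1, g5, h5 g g5]
  have : ¬ 5 ∣ orderOf g := fun e => g5 (h.five g e)
  by_cases g3 : 3 ∣ orderOf g
  · simp [g1, g5, g3, h3 g g3]
  · simp [g1, g5, g3, this]

theorem F25.two (h : F25 u U W Q R) {g : G} (h3 : ¬ 3 ∣ orderOf g) (h5 : ¬ 5 ∣ orderOf g) : orderOf g ∣ 2 ^ 6 := by
  have h1 := orderOf_dvd_natCard g
  rw [h.card, show 25920 = 3 ^ 4 * (5 * 2 ^ 6) by norm_num] at h1
  exact ((Nat.prime_five.coprime_iff_not_dvd.2 h5).symm).dvd_of_dvd_mul_left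
    ((((Nat.prime_three.coprime_iff_not_dvd.2 h3).symm).pow_right 4).dvd_of_dvd_mul_left h1)

theorem F25.q0' (h : F25 u U W Q R) {g : G} (h1 : g ≠ 1) (h3 : ¬ 3 ∣ orderOf g) (h5 : ¬ 5 ∣ orderOf g) : Q g = 0 := by
  refine h.q0 g (by_contra fun e => h1 (orderOf_eq_one_iff.1 ?_))
  exact ((Nat.prime_two.coprime_iff_not_dvd.2 e).symm.pow_right 6).eq_one_of_dvd (h.two h3 h5)

open Classical in
theorem F25.sums (h : F25 u U W Q R) :
    ∑ g with g ≠ 1 ∧ ¬ 3 ∣ orderOf g ∧ ¬ 5 ∣ orderOf g, R g * R g = 14175 ∧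
    7290 ≤ ∑ g with g ≠ 1 ∧ ¬ 3 ∣ orderOf g ∧ ¬ 5 ∣ orderOf g, U g * R g * R g := by
  obtain ⟨u1, w1, q1, r1⟩ := h.one
  have cU := IsIrrCharacter.isCharacter h.hU
  have cR := IsIrrCharacter.isCharacter h.hR
  have cc : ∀ {A B : G → ℤ}, IZ A → IZ B → IsCharacter G fun g => ((A g * B g : ℤ) : ℂ) := fun hA hB => by
    have := (IsIrrCharacter.isCharacter hA).mul (IsIrrCharacter.isCharacter hB)
    convert this using 2
    simp
  have s1 := z_sum (A := R) (B := R) (n := 1) (by rw [IsIrrCharacter.classInner_self h.hR, Nat.cast_one])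
  have s2 := z_sum (A := U) (B := R) (n := 0) (by
    rw [IsIrrCharacter.classInner_of_ne h.hU h.hR fun e => ?_, Nat.cast_zero]
    have h1 : U 1 = R 1 := by exact_mod_cast congrFun e 1
    omega)
  have s3 := z_sum (A := fun g => U g * U g) (B := R) (n := 0) (by
    by_contra e
    have := (cc h.hU h.hU).charDegree_le_of_classInner_ne_zero h.hR (by rwa [Nat.cast_zero] at e)
    rw [charDegree_eq_of_eq (n := 81) (by simp [r1]), charDegree_eq_of_eq (n := 36) (by simp [u1])] at this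
    omega)
  obtain ⟨k, hk⟩ := (cc h.hU h.hR).exists_nat_classInner (IsIrrCharacter.isCharacter h.hW)
  have s4 := z_sum (A := fun g => U g * R g) hk
  have s5 := h.split (fun g => U g * R g * Q g) (c := -1) (fun g hg => by simp [h.r0 g hg]) fun g hg => by
    obtain ⟨a, -, b, c⟩ := h.val g hg
    simp [a, b, c]
  rw [Finset.sum_eq_zero (s := Finset.univ.filter _) fun g hg => by
    obtain ⟨a, b, c⟩ := (Finset.mem_filter.1 hg).2
    simp [h.q0' a b c]] at s5
  have s6 := h.split (fun g => U g * R g * (1 + U g + R g - W g - Q g)) (c := 5) (fun g hg => by simp [h.r0 g hg])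
    fun g hg => by
      obtain ⟨a, b, c, d⟩ := h.val g hg
      simp [a, b, c, d]
  rw [Finset.sum_eq_zero (s := Finset.univ.filter _) fun g hg => by
    obtain ⟨a, b, c⟩ := (Finset.mem_filter.1 hg).2
    have := h.rel g fun e => c (by rw [e])
    rw [show 1 + U g + R g - W g - Q g = 0 by omega, mul_zero]] at s6
  have s7 : ∑ g, U g * R g * (1 + U g + R g - W g - Q g) = ∑ g, U g * R g + ∑ g, U g * U g * R g +
      ∑ g, U g * R g * R g - ∑ g, U g * R g * W g - ∑ g, U g * R g * Q g := by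
    rw [← Finset.sum_add_distrib, ← Finset.sum_add_distrib, ← Finset.sum_sub_distrib, ← Finset.sum_sub_distrib]
    exact Finset.sum_congr rfl fun g _ => by ring
  have s8 := h.split (fun g => R g * R g) (c := 1) (fun g hg => by simp [h.r0 g hg]) fun g hg => by
    simp [(h.val g hg).2.2.2]
  have s9 := h.split (fun g => U g * R g * R g) (c := 1) (fun g hg => by simp [h.r0 g hg]) fun g hg => by
    obtain ⟨a, -, -, d⟩ := h.val g hg
    simp [a, d]
  simp only [u1, w1, q1, r1, h.card] at s1 s2 s3 s4 s5 s6 s8 s9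
  have : (0 : ℤ) ≤ k := Int.natCast_nonneg k
  push_cast at s1 s2 s3 s4
  constructor <;> linarith

end

theorem stepZ : StepZ.{u} := by
  intro G _ _ _ u U W Q R h
  classical
  obtain ⟨z, hz, h2⟩ := CL.Ix2.exists_central (G := G) Nat.prime_two (by rw [h.card]; norm_num)
  have hc := CL.Ix2.cc_mul_cl z
  rw [h.card] at hc
  have h64 : 64 ∣ cc z := by
    have : Nat.Coprime (2 ^ 6) (cl z) := (Nat.prime_two.coprime_iff_not_dvd.2 h2).pow_left 6
    exact this.dvd_of_dvd_mul_right (by rw [hc]; norm_num)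
  obtain ⟨zu, zw, zq, zr⟩ := h.invol hz (Or.inr h64)
  obtain ⟨s1, s2⟩ := h.sums
  have cz : 0 < cc z := Nat.card_pos
  have hT : ∀ {g x : G}, g ≠ 1 → ¬ 3 ∣ orderOf g → ¬ 5 ∣ orderOf g → IsConj g x →
      x ∈ Finset.univ.filter fun g : G => g ≠ 1 ∧ ¬ 3 ∣ orderOf g ∧ ¬ 5 ∣ orderOf g := fun a b c e =>
    Finset.mem_filter.2 ⟨Finset.mem_univ _, fun e1 => a (by rwa [e1, isConj_one_left] at e), z_ord e ▸ b, z_ord e ▸ c⟩
  have le2 : ∀ x : G, x ≠ 1 → ¬ 3 ∣ orderOf x → ¬ 5 ∣ orderOf x → U x ≤ 2 := fun g g1 g3 g5 => by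
    by_contra hlt
    have d6 := h.two g3 g5
    have hU : U g = 4 := by
      have := (z_bd h.hU (n := 6) h.one.1 (by norm_num) g1).2
      have := (h.even (orderOf_dvd_iff_pow_eq_one.1 d6)).1
      omega
    have q0 := h.q0' g1 g3 g5
    have r := h.rel g fun e => g5 (by rw [e])
    have p := h.pairs z g
    have p0 : (0 : ℤ) ≤ np z g u * cc z * cc g := by positivity
    rw [p, zu, zw, zq, zr] at p0
    have hR : R g ≤ -9 := by omega
    have b := z_cls (fun g => R g * R g) _ (fun x _ => mul_self_nonneg _) g (c := 81) fun x e =>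
      ⟨hT g1 g3 g5 e, by rw [← z_conj h.hR e]; nlinarith⟩
    rw [s1] at b
    have hg := CL.Ix2.cc_mul_cl g
    rw [h.card] at hg
    have cg : 144 < cc g := by
      by_contra e
      have : cl g ≤ 175 := by omega
      have := Nat.mul_le_mul (not_lt.1 e) this
      omega
    obtain ⟨k, hk6, hk⟩ := (Nat.dvd_prime_pow Nat.prime_two).1 d6
    obtain ⟨k, rfl⟩ : ∃ j, k = j + 1 := Nat.exists_eq_succ_of_ne_zero fun e => g1 (by
      rwa [e, pow_zero, orderOf_eq_one_iff] at hk)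
    have ht : orderOf (g ^ 2 ^ k) = 2 := by
      rw [orderOf_pow_of_dvd (by positivity) (by rw [hk]; exact Dvd.intro _ rfl), hk, pow_succ,
        Nat.mul_div_cancel_left _ (by positivity)]
    have ct : cc g ≤ cc (g ^ 2 ^ k) := card_le_of_le fun x hx => mem_centralizer_singleton_iff.2
      (Commute.pow_right (mem_centralizer_singleton_iff.1 hx) _)
    have ut := (h.invol ht (Or.inl (by omega))).1
    obtain ⟨k, rfl⟩ : ∃ j, k = j + 1 := Nat.exists_eq_succ_of_ne_zero fun e => by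
      rw [e, pow_zero, pow_one] at ut; omega
    have e1 := z_eig (IsIrrCharacter.isCharacter h.hU) g (2 ^ (k + 1)) (by rw [hk, pow_succ']) 
    have e2 := genChar_pow_eq_of_rat (IsIrrCharacter.isGeneralizedCharacter h.hU) (g := g) (q := U g)
      (by simp) (m := 1 + 2 ^ (k + 1)) (by
        rw [hk]
        exact (Nat.coprime_two_right.2 (by rw [pow_succ]; exact ⟨2 ^ k, by ring⟩)).pow_right _)
    rw [e2, hU, ut, h.one.1] at e1
    norm_num at e1
  have z1 : z ≠ 1 := fun e => by rw [e, orderOf_one] at hz; omega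
  have b := z_cls (fun g => R g * R g * (2 - U g)) _ (fun x hx => by
      obtain ⟨a, b, c⟩ := (Finset.mem_filter.1 hx).2
      exact mul_nonneg (mul_self_nonneg _) (sub_nonneg.2 (le2 x a b c))) z (c := 324) fun x e =>
    ⟨hT z1 (by rw [hz]; norm_num) (by rw [hz]; norm_num) e, by rw [← z_conj h.hR e, ← z_conj h.hU e, zu, zr]; norm_num⟩
  rw [Finset.sum_congr rfl (g := fun g => 2 * (R g * R g) - U g * R g * R g) fun g _ => by ring,
    Finset.sum_sub_distrib, ← Finset.mul_sum, s1] at b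
  have c9 := CL.Ix2.ca_cent h.hR z (x := 9) (d := 81) (by simp [zr]) (by simp [h.one.2.2.2]) (by norm_num)
  have c5 : 5 ∣ cl z := by
    refine (Nat.prime_five.dvd_mul.1 (show 5 ∣ cc z * cl z by rw [hc]; norm_num)).resolve_left fun e => ?_
    have := Fact.mk Nat.prime_five
    obtain ⟨x, hx⟩ := exists_prime_orderOf_dvd_card' 5 e
    have h10 := (Commute.orderOf_mul_eq_mul_orderOf_of_coprime (x := (x : G)) (y := z)
      (mem_centralizer_singleton_iff.1 x.2) (by rw [orderOf_coe, hx, hz]; norm_num))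
    rw [orderOf_coe, hx, hz] at h10
    have := h.five _ (by rw [h10]; norm_num)
    omega
  have c0 : cl z ≠ 0 := fun e => by rw [e] at hc; omega
  exact ⟨z, hz, ⟨zu, zw, zq, zr⟩, by omega, le2⟩

end CL.T35
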